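import Cfsg.Agent.H80.PuigUsami.RankTwo
import Cfsg.Agent.S4687

/-!
Small abelian defect groups: free action, and trivial inertial quotient gives nilpotency.
-/

set_option linter.style.haveILetI false

namespace Cfsg.Agent.H80.PuigUsami

open Watanabe

universe u

variable {p : ℕ} [hp : Fact p.Prime] {M : Ideal Cfsg.AlgInt} {G : Type u} [Group G] [Fintype G]
  {B : Set (Cfsg.IrrCharacter G)} {P : Subgroup G}
  {c : Set (Cfsg.IrrCharacter (Subgroup.centralizer (P : Set G)))}

/-- A maximal pair induces the block. -/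
theorem induced_self (hM : Cfsg.IsPModular p M) (hmax : Cfsg.IsMaximalBrauerPair p M B P c)
    (hab : ∀ x ∈ P, ∀ y ∈ P, x * y = y * x) :
    Cfsg.IsInducedBlock M (Subgroup.centralizer (P : Set G)) c B := by
  have hC : P ≤ Subgroup.centralizer (P : Set G) := fun x hx =>
    Subgroup.mem_centralizer_iff.2 fun y hy => hab y hy x hx
  exact (H83.major_of_le hM hmax hmax.1.1.1 hC hC Relation.ReflTransGen.refl).1

/-- Trivial inertial quotient. -/
theorem nilpotent_of_index (hM : Cfsg.IsPModular p M) (hmax : Cfsg.IsMaximalBrauerPair p M B P c)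
    (hab : ∀ x ∈ P, ∀ y ∈ P, x * y = y * x)
    (he : (Subgroup.centralizer (P : Set G)).relIndex (stab P c) = 1) :
    Cfsg.IsNilpotentBlock p M B :=
  (S4687.result p M hM B P c hmax hab).2 fun _ hn hs =>
    Subgroup.relIndex_eq_one.1 he ((H82.stabilizesBlock_iff_conjPair hM hmax.1.1.2).1 ⟨hn, hs⟩)

/-- Defect groups of order three. -/
theorem free_of_three {M : Ideal Cfsg.AlgInt} (hM : Cfsg.IsPModular 3 M)
    (hmax : Cfsg.IsMaximalBrauerPair 3 M B P c)
    (hab : ∀ x ∈ P, ∀ y ∈ P, x * y = y * x) (h3 : Nat.card P = 3) :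
    FreeAct P c ∧ (Subgroup.centralizer (P : Set G)).relIndex (stab P c) ≤ 2 := by
  classical
  haveI : Fintype P := Fintype.ofFinite _
  letI : CommGroup P :=
    { (inferInstance : Group P) with mul_comm := fun x y => Subtype.ext (hab _ x.2 _ y.2) }
  have hker : (conjT P c).ker = (Subgroup.centralizer (P : Set G)).subgroupOf (stab P c) := by
    ext t
    rw [MonoidHom.mem_ker, Subgroup.mem_subgroupOf, Subgroup.mem_centralizer_iff]
    constructor
    · intro h v hv
      have h1 := congrArg Subtype.val (DFunLike.congr_fun h (⟨v, hv⟩ : P))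
      exact (mul_inv_eq_iff_eq_mul.1 h1).symm
    · intro h
      refine MulEquiv.ext fun v => Subtype.ext ?_
      rw [coe_conjT, MulAut.one_apply, ← h v v.2, mul_inv_cancel_right]
  have hgen : ∀ v : P, v ≠ 1 → ∀ a b : MulAut P, a v = b v → a = b := by
    intro v hv a b hab'
    refine MulEquiv.ext fun w => ?_
    haveI : Fact (Nat.Prime 3) := ⟨Nat.prime_three⟩
    obtain ⟨i, rfl⟩ : w ∈ Subgroup.zpowers v := mem_zpowers_of_prime_card h3 hv
    rw [map_zpow, map_zpow, hab']
  refine ⟨fun t ht v hv hv1 hfix => ?_, ?_⟩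
  · have h : (⟨t, ht⟩ : stab P c) ∈ (conjT P c).ker :=
      hgen ⟨v, hv⟩ (fun h1 => hv1 (congrArg Subtype.val h1)) _ 1 (Subtype.ext hfix)
    rwa [hker] at h
  · obtain ⟨v, hv⟩ : ∃ v : P, v ≠ 1 := by
      haveI : Nontrivial P := Finite.one_lt_card_iff_nontrivial.1 (by omega)
      exact exists_ne 1
    rw [Subgroup.relIndex, ← hker, Subgroup.index_ker, Nat.card_eq_fintype_card, ← Finset.card_univ]
    refine le_trans (Finset.card_le_card_of_injOn (fun r : (conjT P c).range => (r : MulAut P) v)
      (t := Finset.univ.erase 1) (fun r _ => ?_) fun r _ s _ h => Subtype.ext (hgen v hv _ _ h)) ?_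
    · exact Finset.mem_erase.2 ⟨fun h => hv ((map_eq_one_iff _ (r : MulAut P).injective).1 h),
        Finset.mem_univ _⟩
    · rw [Finset.card_erase_of_mem (Finset.mem_univ _), Finset.card_univ, ← Nat.card_eq_fintype_card, h3]

end Cfsg.Agent.H80.PuigUsami
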