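import Cfsg.Agent.H80.PuigUsami.RVal

/-!
Orthogonality of the decomposition values at the elements of the defect group.
-/

set_option linter.style.haveILetI false

open scoped ComplexConjugate

namespace Cfsg.Agent.H80.PuigUsami

open H83 H83.Star MonoidAlgebra BlockBasic CharBasic Watanabe

universe u

variable {p : ℕ} [hp : Fact p.Prime] {M : Ideal Cfsg.AlgInt} {G : Type u} [Group G] [Fintype G]
  {B : Set (Cfsg.IrrCharacter G)} {P : Subgroup G}
  {c : Set (Cfsg.IrrCharacter (Subgroup.centralizer (P : Set G)))}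

open scoped Classical in
omit hp in
theorem blockKernel_eq_sum (g h : G) :
    blockKernel B g h = ∑ χ : Cfsg.IrrCharacter G,
      if χ ∈ B then (χ : G → ℂ) g * conj ((χ : G → ℂ) h) else 0 := by
  rw [blockKernel, finsum_mem_eq_sum_ite]

/-- The support of a block idempotent of a centralizer. -/
theorem pPart_of_coeff_ne_zero (hM : Cfsg.IsPModular p M) {v : G} (hv : ∃ k, orderOf v = p ^ k)
    {b : Set (Cfsg.IrrCharacter (cen v))} (hb : Cfsg.IsPBlock M b) {d : G}
    (hd : (H82.blockUp (cen v) b).coeff d ≠ 0) : BlockBasic.pPart (p := p) (v * d) = v := by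
  by_cases hm : d ∈ cen v
  · refine pPart_mul_of (mem_cen_iff.1 hm) hv fun hdvd => hd ?_
    cases nonempty_fintype (cen v)
    rw [show d = ((⟨d, hm⟩ : cen v) : G) from rfl, H82.coeff_blockUp_of_mem]
    exact blockCoeff_eq_zero_of_singular hM hb (g := (⟨d, hm⟩ : cen v)) (by
      rwa [← Subgroup.orderOf_coe])
  · exact absurd (suppIn_blockUp (cen v) b d hm) hd

variable (hM : Cfsg.IsPModular p M) (hmax : Cfsg.IsMaximalBrauerPair p M B P c)
  (hab : ∀ x ∈ P, ∀ y ∈ P, x * y = y * x) (hfree : FreeAct P c)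

include hM hmax hab hfree in
open scoped Classical in
/-- Elements in different orbits of the stabilizer are orthogonal. -/
theorem sum_Dval_ne {v w : G} (hv : v ∈ P) (hv1 : v ≠ 1) (hw : w ∈ P) (hw1 : w ≠ 1)
    (hne : ∀ t ∈ stab P c, t * v * t⁻¹ ≠ w) :
    (∑ χ : Cfsg.IrrCharacter G,
      if χ ∈ B then conj (Dval p M P c χ v) * Dval p M P c χ w else 0) = 0 := by
  cases nonempty_fintype (cen v)
  cases nonempty_fintype (cen w)
  have hB := hmax.1.2.1
  have hv' := exists_orderOf_of_mem hmax.1.1.1 hv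
  have hw' := exists_orderOf_of_mem hmax.1.1.1 hw
  have hbv := isPBlock_bAt (c := c) hM hmax.1.1 hv
  have hbw := isPBlock_bAt (c := c) hM hmax.1.1 hw
  obtain ⟨φv, hφv⟩ := isPBlock_nonempty hM hbv
  obtain ⟨φw, hφw⟩ := isPBlock_nonempty hM hbw
  have hPv := fun χ => chiLin_bAt_eq hM hmax hab hfree hv hv1 hφv χ
  have hPw := fun χ => chiLin_bAt_eq hM hmax hab hfree hw hw1 hφw χ
  have hzv : conj ((φv : cen v → ℂ) 1) ≠ 0 := fun h =>
    IsIrr.one_ne_zero φv.2 (by simpa using congrArg conj h)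
  refine (mul_eq_zero.1 (?_ : (conj ((φv : cen v → ℂ) 1) * (φw : cen w → ℂ) 1) * _ = 0)).resolve_left
    (mul_ne_zero hzv (IsIrr.one_ne_zero φw.2))
  rw [Finset.mul_sum, Finset.sum_congr rfl (g := fun χ : Cfsg.IrrCharacter G => if χ ∈ B then
      conj (chiLin (χ : G → ℂ) (single v 1 * H82.blockUp (cen v) (bAt p M P c v) * single 1 1)) *
        chiLin (χ : G → ℂ) (single w 1 * H82.blockUp (cen w) (bAt p M P c w) * single 1 1) else 0)
    fun χ _ => by
      split_ifs
      · rw [hPv, hPw, map_mul]; ring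
      · rw [mul_zero]]
  by_cases hconj : IsConj v w
  · obtain ⟨g, rfl⟩ := isConj_iff.1 hconj
    obtain ⟨f', hf'⟩ := exists_conjPair_zpowers g v (bAt p M P c v)
    have hup := blockUp_of_conjPair (p := p) hf'
    have hf'b : Cfsg.IsPBlock M f' := by
      have h := H82.isBrauerPair_conjPair (p := p) (M := M) (x := g)
        (a := ⟨Subgroup.zpowers v, bAt p M P c v⟩)
        (H82.isBrauerPair_of_subpairLE (bAt_le hM hmax.1.1 hv) hmax.1.1)
      rw [hf'] at h
      exact h.2
    have hne' : f' ≠ bAt p M P c (g * v * g⁻¹) := by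
      intro heq
      obtain ⟨t, ht, htv⟩ := H83.exists_stab_conj hM hmax hv hw (fun d hd => hab d hd _ hv)
        (fun d hd => hab d hd _ hw) (bAt_le hM hmax.1.1 hv) (bAt_le hM hmax.1.1 hw) rfl fun k => by
          show (H82.blockUp (cen (g * v * g⁻¹)) (bAt p M P c (g * v * g⁻¹))).coeff k = _
          rw [← heq, hup, coeff_cj]
      exact hne t ht htv
    obtain ⟨k, hk⟩ := hw'
    obtain ⟨a, ha⟩ := subgroup_scalars (self_mem_cen (g * v * g⁻¹)) fun d hd =>
      (mem_cen_iff.1 hd).eq
    have htrans : ∀ χ : Cfsg.IrrCharacter G,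
        chiLin (χ : G → ℂ) (single v 1 * H82.blockUp (cen v) (bAt p M P c v) * single 1 1) =
          chiLin (χ : G → ℂ) (single (g * v * g⁻¹) 1 * H82.blockUp (cen (g * v * g⁻¹)) f' *
            single 1 1) := fun χ => by
      rw [hup, ← chiLin_cj (IsIrr.isClassFunction χ.2) g, map_mul, map_mul]
      congr 3 <;> simp [cj_eq_single, single_mul_single]
    have hpart : ∀ (b : Set (Cfsg.IrrCharacter (cen (g * v * g⁻¹)))) (χ : Cfsg.IrrCharacter G),
        chiLin (χ : G → ℂ) (single (g * v * g⁻¹) 1 * H82.blockUp (cen (g * v * g⁻¹)) b *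
            single 1 1) =
          Cfsg.blockPart b (fun d : cen (g * v * g⁻¹) => (χ : G → ℂ) (g * v * g⁻¹ * (d : G))) 1 := by
      intro b χ
      rw [blockPart_shift_eq _ (self_mem_cen _) χ ha, chiLin_shift]
      simp only [H82.coeff_blockUp]
      exact sum_subgroupBlockCoeff_shift (self_mem_cen _) b χ a ha 1
    simp only [htrans, hpart]
    have h := sum_parts hM hB hk (cen (g * v * g⁻¹)) (cen_eq_singleton _) hbw hf'b
      (s := (1 : cen (g * v * g⁻¹))) not_dvd_orderOf_one
    refine h.trans ?_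
    split_ifs
    · exact Finset.sum_eq_zero fun ψ _ => if_neg fun hψ =>
        hne' (BlockBasic.isPBlock_eq_of_mem hM hf'b hbw hψ.2 hψ.1)
    · rfl
  · simp only [chiLin_shift, mul_one, map_sum, map_mul, Finset.sum_mul_sum]
    rw [Finset.sum_congr rfl (g := fun χ : Cfsg.IrrCharacter G => ∑ d : G, ∑ d' : G,
      if χ ∈ B then conj ((H82.blockUp (cen v) (bAt p M P c v)).coeff d) *
        (H82.blockUp (cen w) (bAt p M P c w)).coeff d' *
        ((χ : G → ℂ) (w * d') * conj ((χ : G → ℂ) (v * d))) else 0) fun χ _ => by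
        split_ifs
        · exact Finset.sum_congr rfl fun d _ => Finset.sum_congr rfl fun d' _ => by ring
        · simp, Finset.sum_comm]
    refine Finset.sum_eq_zero fun d _ => ?_
    rw [Finset.sum_comm]
    refine Finset.sum_eq_zero fun d' _ => ?_
    by_cases hd : (H82.blockUp (cen v) (bAt p M P c v)).coeff d = 0
    · simp [hd]
    by_cases hd' : (H82.blockUp (cen w) (bAt p M P c w)).coeff d' = 0
    · simp [hd']
    rw [← Finset.sum_filter, ← Finset.mul_sum, Finset.sum_filter, ← blockKernel_eq_sum,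
      blockKernel_eq_zero hM hB (fun hc => hconj ?_), mul_zero]
    rw [pPart_of_coeff_ne_zero hM hw' hbw hd', pPart_of_coeff_ne_zero hM hv' hbv hd] at hc
    exact hc.symm

include hM hmax hab hfree in
open scoped Classical in
/-- The degrees are orthogonal to the decomposition values. -/
theorem sum_degree_mul_Dval {v : G} (hv : v ∈ P) (hv1 : v ≠ 1) :
    (∑ χ : Cfsg.IrrCharacter G,
      if χ ∈ B then (χ : G → ℂ) 1 * conj (Dval p M P c χ v) else 0) = 0 := by
  cases nonempty_fintype (cen v)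
  have hv' := exists_orderOf_of_mem hmax.1.1.1 hv
  have hbv := isPBlock_bAt (c := c) hM hmax.1.1 hv
  obtain ⟨φv, hφv⟩ := isPBlock_nonempty hM hbv
  have hzv : conj ((φv : cen v → ℂ) 1) ≠ 0 := fun h =>
    IsIrr.one_ne_zero φv.2 (by simpa using congrArg conj h)
  refine (mul_eq_zero.1 (?_ : conj ((φv : cen v → ℂ) 1) * _ = 0)).resolve_left hzv
  rw [Finset.mul_sum, Finset.sum_congr rfl (g := fun χ : Cfsg.IrrCharacter G => ∑ d : G,
      if χ ∈ B then conj ((H82.blockUp (cen v) (bAt p M P c v)).coeff d) *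
        ((χ : G → ℂ) 1 * conj ((χ : G → ℂ) (v * d))) else 0) fun χ _ => by
      split_ifs
      · rw [mul_left_comm, ← map_mul, ← chiLin_bAt_eq hM hmax hab hfree hv hv1 hφv χ, chiLin_shift,
          map_sum, Finset.mul_sum]
        exact Finset.sum_congr rfl fun d _ => by rw [map_mul, mul_one]; ring
      · simp, Finset.sum_comm]
  refine Finset.sum_eq_zero fun d _ => ?_
  by_cases hd : (H82.blockUp (cen v) (bAt p M P c v)).coeff d = 0
  · simp [hd]
  rw [← Finset.sum_filter, ← Finset.mul_sum, Finset.sum_filter, ← blockKernel_eq_sum,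
    blockKernel_eq_zero_of_regular_of_singular hM hmax.1.2.1 not_dvd_orderOf_one ?_, mul_zero]
  by_contra hsing
  have h := pPart_of_coeff_ne_zero hM hv' hbv hd
  rw [(pPart_eq_one_iff (v * d)).2 hsing] at h
  exact hv1 h.symm

end Cfsg.Agent.H80.PuigUsami
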