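import Cfsg.Agent.H80.PuigUsami.Sign
import Cfsg.Agent.H80.PuigUsami.Orth

/-!
The integer vectors attached to the orbit sums of the linear characters of the defect group.
-/

set_option linter.style.haveILetI false

open scoped ComplexConjugate

namespace Cfsg.Agent.H80.PuigUsami

open H83 H83.Star MonoidAlgebra BlockBasic CharBasic Watanabe

universe u

/-- Averages of invariant algebraic integers over free orbits. -/
theorem isIntegral_avg {T : Type*} [Group T] [Fintype T] {Z : Type*} [Fintype Z] [MulAction T Z]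
    (Φ : Z → ℂ) (hinv : ∀ (t : T) (z : Z), Φ (t • z) = Φ z) (hint : ∀ z, IsIntegral ℤ (Φ z))
    {m : ℕ} (hm : ∀ z, Φ z = 0 ∨ Nat.card (MulAction.stabilizer T z) = m) :
    IsIntegral ℤ ((m : ℂ) * (Nat.card T : ℂ)⁻¹ * ∑ z, Φ z) := by
  classical
  let π : Z → Quotient (MulAction.orbitRel T Z) := Quotient.mk''
  rw [← Finset.sum_fiberwise_of_maps_to (t := Finset.univ.image π) (g := π)
    (fun z _ => Finset.mem_image_of_mem π (Finset.mem_univ z)) Φ, Finset.mul_sum]
  refine IsIntegral.sum _ fun q hq => ?_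
  obtain ⟨z, -, rfl⟩ := Finset.mem_image.mp hq
  have hfib : (Finset.univ.filter fun x : Z => π x = π z) = (MulAction.orbit T z).toFinset := by
    ext x
    simp [π, Quotient.eq'', MulAction.orbitRel_apply]
  rw [hfib, Finset.sum_congr rfl (g := fun _ => Φ z) (fun x hx => by
    obtain ⟨t, rfl⟩ := MulAction.mem_orbit_iff.mp (Set.mem_toFinset.mp hx)
    exact hinv t z), Finset.sum_const, nsmul_eq_mul, Set.toFinset_card]
  rcases hm z with h | h
  · simp [h, isIntegral_zero]
  · have h1 : (m : ℂ) ≠ 0 := by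
      rw [← h]
      exact Nat.cast_ne_zero.2 Nat.card_pos.ne'
    haveI : Nonempty (MulAction.orbit T z) := ⟨⟨z, MulAction.mem_orbit_self z⟩⟩
    have h2 : (Fintype.card (MulAction.orbit T z) : ℂ) ≠ 0 :=
      Nat.cast_ne_zero.2 Fintype.card_ne_zero
    have hk : (m : ℂ) * (Nat.card T : ℂ)⁻¹ * ((Fintype.card (MulAction.orbit T z) : ℂ) * Φ z) =
        Φ z := by
      rw [Nat.card_eq_fintype_card (α := T),
        ← MulAction.card_orbit_mul_card_stabilizer_eq_card_group T z,
        ← Nat.card_eq_fintype_card (α := MulAction.stabilizer T z), h, Nat.cast_mul]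
      field_simp
    rw [hk]
    exact hint z

variable {p : ℕ} [hp : Fact p.Prime] {M : Ideal Cfsg.AlgInt} {G : Type u} [Group G] [Fintype G]
  {B : Set (Cfsg.IrrCharacter G)} {P : Subgroup G}
  {c : Set (Cfsg.IrrCharacter (Subgroup.centralizer (P : Set G)))}

/-- The stabilizer acting on the defect group. -/
noncomputable def conjT (P : Subgroup G)
    (c : Set (Cfsg.IrrCharacter (Subgroup.centralizer (P : Set G)))) : stab P c →* MulAut P where
  toFun t :=
    { toFun := fun v => ⟨(t : G) * v * (t : G)⁻¹, conj_mem_of_stab t.2 v.2⟩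
      invFun := fun v => ⟨(t : G)⁻¹ * v * ((t : G)⁻¹)⁻¹,
        conj_mem_of_stab ((stab P c).inv_mem t.2) v.2⟩
      left_inv := fun v => Subtype.ext (by simp only; group)
      right_inv := fun v => Subtype.ext (by simp only; group)
      map_mul' := fun v w => Subtype.ext (by simp only [Subgroup.coe_mul]; group) }
  map_one' := MulEquiv.ext fun v => Subtype.ext (by
    show ((1 : stab P c) : G) * v * ((1 : stab P c) : G)⁻¹ = v
    simp)
  map_mul' t s := MulEquiv.ext fun v => Subtype.ext (by
    show ((t * s : stab P c) : G) * v * ((t * s : stab P c) : G)⁻¹ =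
      (t : G) * ((s : G) * v * (s : G)⁻¹) * (t : G)⁻¹
    rw [Subgroup.coe_mul]
    group)

omit hp in
theorem coe_conjT (t : stab P c) (v : P) :
    ((conjT P c t v : P) : G) = (t : G) * (v : G) * (t : G)⁻¹ := rfl

open scoped Classical in
omit hp in
/-- The orbits on the nontrivial linear characters. -/
theorem exists_orbits (hab : ∀ x ∈ P, ∀ y ∈ P, x * y = y * x) (hfree : FreeAct P c) {e : ℕ}
    (he : (Subgroup.centralizer (P : Set G)).relIndex (stab P c) = e) :
    ∃ ι : Finset (Finset (P →* ℂˣ)),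
      (∀ O ∈ ι, O.card = e ∧ (1 : P →* ℂˣ) ∉ O ∧
        (∀ t : stab P c, ∀ l ∈ O, l.comp (conjT P c t).toMonoidHom ∈ O) ∧
        ∀ l ∈ O, ∀ l' ∈ O, ∃ t : stab P c, l' = l.comp (conjT P c t).toMonoidHom) ∧
      (∀ O ∈ ι, ∀ O' ∈ ι, O ≠ O' → Disjoint O O') ∧
      (∀ l : P →* ℂˣ, l ≠ 1 → ∃ O ∈ ι, l ∈ O) ∧
      ι.card * e + 1 = Nat.card P := by
  letI : CommGroup P :=
    { (inferInstance : Group P) with mul_comm := fun x y => Subtype.ext (hab _ x.2 _ y.2) }
  let eqv : Cfsg.IrrCharacter P ≃ (P →* ℂˣ) := ⟨homOf, irrOf, irrOf_homOf, homOf_irrOf⟩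
  letI : Fintype (P →* ℂˣ) := Fintype.ofEquiv _ eqv
  letI : MulAction (stab P c) (P →* ℂˣ) :=
    { smul := fun t l => l.comp (conjT P c t⁻¹).toMonoidHom
      one_smul := fun l => MonoidHom.ext fun v => by
        show l (conjT P c (1 : stab P c)⁻¹ v) = l v
        rw [inv_one, map_one]
        rfl
      mul_smul := fun s t l => MonoidHom.ext fun v => by
        show l (conjT P c (s * t)⁻¹ v) = l (conjT P c t⁻¹ (conjT P c s⁻¹ v))
        rw [mul_inv_rev, map_mul]
        rfl }
  have hsmul : ∀ (t : stab P c) (l : P →* ℂˣ),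
      t • l = l.comp (conjT P c t⁻¹).toMonoidHom := fun _ _ => rfl
  have hstab : ∀ l : P →* ℂˣ, l ≠ 1 → MulAction.stabilizer (stab P c) l =
      (Subgroup.centralizer (P : Set G)).subgroupOf (stab P c) := by
    intro l hl
    ext t
    rw [MulAction.mem_stabilizer_iff, Subgroup.mem_subgroupOf, hsmul]
    constructor
    · intro h
      by_contra ht
      let d : P →* P :=
        { toFun := fun v => conjT P c t⁻¹ v * v⁻¹
          map_one' := by simp
          map_mul' := fun v w => by
            rw [map_mul, mul_inv, mul_mul_mul_comm] }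
      have hd : Function.Injective d := by
        rw [injective_iff_map_eq_one]
        intro v hv
        have hfix : conjT P c t⁻¹ v = v := mul_inv_eq_one.1 hv
        by_contra hv1
        refine ht ?_
        have h1 := hfree _ (t⁻¹ : stab P c).2 v v.2 (fun h => hv1 (Subtype.ext h))
          (congrArg (fun w : P => (w : G)) hfix)
        simpa using inv_mem h1
      refine hl (MonoidHom.ext fun w => ?_)
      obtain ⟨v, rfl⟩ := (Finite.injective_iff_surjective.1 hd) w
      show l (conjT P c t⁻¹ v * v⁻¹) = 1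
      rw [map_mul l, map_inv l, mul_inv_eq_one]
      exact DFunLike.congr_fun h v
    · intro ht
      refine MonoidHom.ext fun v => congrArg l (Subtype.ext ?_)
      show ((t⁻¹ : stab P c) : G) * v * ((t⁻¹ : stab P c) : G)⁻¹ = v
      rw [InvMemClass.coe_inv, ← Subgroup.mem_centralizer_iff.1 (inv_mem ht) _ v.2,
        mul_inv_cancel_right]
  let orb : (P →* ℂˣ) → Finset (P →* ℂˣ) := fun l =>
    Finset.univ.filter fun l' => l' ∈ MulAction.orbit (stab P c) l
  have horbmem : ∀ {l l' : P →* ℂˣ}, l' ∈ orb l ↔ l' ∈ MulAction.orbit (stab P c) l :=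
    fun {l l'} => by simp [orb]
  have heq : ∀ {l l' : P →* ℂˣ}, l' ∈ orb l → orb l' = orb l := fun {l l'} h => by
    ext m
    rw [horbmem, horbmem, MulAction.orbit_eq_iff.2 (horbmem.1 h)]
  have hone : ∀ {l : P →* ℂˣ}, (1 : P →* ℂˣ) ∈ orb l → l = 1 := fun {l} h => by
    obtain ⟨t, ht⟩ := horbmem.1 h
    have ht' : t • l = 1 := ht
    rw [eq_inv_smul_iff.2 ht', hsmul]
    exact MonoidHom.ext fun _ => rfl
  have hcard : ∀ l : P →* ℂˣ, l ≠ 1 → (orb l).card = e := by
    intro l hl
    rw [← he, Subgroup.relIndex, ← hstab l hl, MulAction.index_stabilizer,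
      ← Set.ncard_coe_finset]
    congr 1
    ext m
    simp [orb]
  refine ⟨(Finset.univ.filter fun l : P →* ℂˣ => l ≠ 1).image orb, ?_, ?_, ?_, ?_⟩
  · intro O hO
    obtain ⟨l, hl, rfl⟩ := Finset.mem_image.1 hO
    have hl1 := (Finset.mem_filter.1 hl).2
    refine ⟨hcard l hl1, fun h => hl1 (hone h), fun t m hm => ?_, fun m hm m' hm' => ?_⟩
    · rw [← heq hm, horbmem]
      exact ⟨t⁻¹, by show t⁻¹ • m = _; rw [hsmul, inv_inv]⟩
    · rw [← heq hm, horbmem] at hm'
      obtain ⟨t, ht⟩ := hm'
      exact ⟨t⁻¹, ht.symm.trans (hsmul t m)⟩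
  · intro O hO O' hO' hne
    obtain ⟨l, -, rfl⟩ := Finset.mem_image.1 hO
    obtain ⟨l', -, rfl⟩ := Finset.mem_image.1 hO'
    exact Finset.disjoint_left.2 fun m hm hm' => hne ((heq hm).symm.trans (heq hm'))
  · exact fun l hl => ⟨orb l, Finset.mem_image_of_mem orb (Finset.mem_filter.2 ⟨Finset.mem_univ _, hl⟩),
      horbmem.2 (MulAction.mem_orbit_self l)⟩
  · have h1 := Finset.card_eq_sum_card_fiberwise
      (s := Finset.univ.filter fun l : P →* ℂˣ => l ≠ 1)
      (t := (Finset.univ.filter fun l : P →* ℂˣ => l ≠ 1).image orb) (f := orb)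
      fun l hl => Finset.mem_image_of_mem orb hl
    rw [Finset.sum_congr rfl (g := fun _ => e) fun O hO => by
      obtain ⟨l, hl, rfl⟩ := Finset.mem_image.1 hO
      have hl1 := (Finset.mem_filter.1 hl).2
      rw [← hcard l hl1]
      congr 1
      ext m
      simp only [Finset.mem_filter, Finset.mem_univ, true_and]
      exact ⟨fun h => h.2 ▸ horbmem.2 (MulAction.mem_orbit_self m),
        fun h => ⟨fun hm => hl1 (hone (hm ▸ h)), heq h⟩⟩,
      Finset.sum_const, smul_eq_mul, Finset.filter_ne' Finset.univ (1 : P →* ℂˣ),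
      Finset.card_erase_of_mem (Finset.mem_univ _), Finset.card_univ] at h1
    have h2 : Fintype.card (P →* ℂˣ) = Nat.card P := by
      rw [← Nat.card_eq_fintype_card, ← Nat.card_congr eqv,
        card_irr_of_comm fun x y => mul_comm x y]
    have := Nat.card_pos (α := P)
    rw [Finset.filter_ne' Finset.univ (1 : P →* ℂˣ)]
    omega

variable (hM : Cfsg.IsPModular p M) (hmax : Cfsg.IsMaximalBrauerPair p M B P c)
  (hab : ∀ x ∈ P, ∀ y ∈ P, x * y = y * x) (hfree : FreeAct P c)

set_option maxHeartbeats 1600000 in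
include hM hmax hab hfree in
open scoped Classical in
/-- The vectors. -/
theorem exists_vectors (hP1 : P ≠ ⊥) {e : ℕ}
    (he : (Subgroup.centralizer (P : Set G)).relIndex (stab P c) = e) :
    ∃ (ι : Type u) (_ : Fintype ι) (_ : DecidableEq ι) (_ : Nonempty ι) (a : B → ι → ℤ),
      (∀ i i', ∑ χ : B, a χ i * a χ i' = (if i = i' then 1 else 0) + e) ∧
      (∀ χ, ∃ i, a χ i ≠ 0) ∧
      (∃ d : B → ℤ, (∀ χ, d χ ≠ 0) ∧ ∀ i, ∑ χ : B, d χ * a χ i = 0) ∧
      Fintype.card ι * e + 1 = Nat.card P := by
  obtain ⟨j, hj⟩ := exists_localIdem hM hmax.1.1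
  obtain ⟨h, hgen, hh⟩ := exists_sign hmax hab hfree hj
  obtain ⟨ι, hι, hdisj, hcov, hcount⟩ := exists_orbits hab hfree he
  have hP := hmax.1.1.1
  have hcardP : (Nat.card P : ℂ) ≠ 0 := Nat.cast_ne_zero.2 Nat.card_pos.ne'
  have h1P : 1 < Nat.card P := (Subgroup.one_lt_card_iff_ne_bot P).2 hP1
  have he0 : e ≠ 0 := fun h0 => by rw [h0] at hcount; omega
  have heC : (e : ℂ) ≠ 0 := Nat.cast_ne_zero.2 he0
  letI : CommGroup P :=
    { (inferInstance : Group P) with mul_comm := fun x y => Subtype.ext (hab _ x.2 _ y.2) }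
  -- the action
  let φ := conjT P c
  letI : MulAction (stab P c) P := MulAction.compHom P φ
  have hact : ∀ (t : stab P c) (v : P), ((t • v : P) : G) = (t : G) * (v : G) * (t : G)⁻¹ :=
    fun _ _ => rfl
  have hsm1 : ∀ (t : stab P c) (v : P), t • v = 1 → v = 1 := fun t v hv =>
    (φ t).map_eq_one_iff.1 hv
  set m := Nat.card ((Subgroup.centralizer (P : Set G)).subgroupOf (stab P c)) with hm
  have hTe : Nat.card (stab P c) = e * m := by
    rw [← he, hm, Subgroup.relIndex, mul_comm, Subgroup.card_mul_index]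
  have hmC : (m : ℂ) ≠ 0 := by rw [hm]; exact Nat.cast_ne_zero.2 Nat.card_pos.ne'
  have hstabP : ∀ v : P, v ≠ 1 → MulAction.stabilizer (stab P c) v =
      (Subgroup.centralizer (P : Set G)).subgroupOf (stab P c) := by
    intro v hv
    ext t
    rw [MulAction.mem_stabilizer_iff, Subgroup.mem_subgroupOf]
    constructor
    · exact fun ht => hfree t t.2 v v.2 (fun h1 => hv (Subtype.ext h1))
        ((hact t v).symm.trans (congrArg Subtype.val ht))
    · intro ht
      refine Subtype.ext ?_
      rw [hact, ← Subgroup.mem_centralizer_iff.1 ht _ v.2, mul_inv_cancel_right]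
  -- the integers
  set r : P → ℕ := fun v => rVal hM j (Subgroup.zpowers (v : G)) with hr
  have hne1 : ∀ v : P, v ≠ 1 → (v : G) ≠ 1 := fun v hv h1 => hv (Subtype.ext h1)
  have hr0 : ∀ v : P, v ≠ 1 → (r v : ℂ) ≠ 0 := fun v hv => by
    obtain ⟨f, -, hle⟩ := H82.exists_subpair hM hmax.1.1 (Subgroup.zpowers_le.2 v.2)
    cases nonempty_fintype (Subgroup.centralizer ((Subgroup.zpowers (v : G) : Subgroup G) : Set G))
    exact Nat.cast_ne_zero.2
      (exists_val hmax hab hfree hj (by simpa using hne1 v hv) hle).1.1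
  set F : Cfsg.IrrCharacter G → P → ℂ := fun χ v => Fval hM j χ (v : G) with hF
  have hFD : ∀ χ (v : P), v ≠ 1 → F χ v = (r v : ℂ) * Dval p M P c χ (v : G) := fun χ v hv =>
    Fval_eq hmax hab hfree hj v.2 (hne1 v hv) χ
  have hFt : ∀ χ (t : stab P c) (v : P), F χ (t • v) = F χ v := fun χ t v =>
    Fval_conj hmax hab hfree hj hP1 t.2 v.2 χ
  have hFF : ∀ v w : P, v ≠ 1 → w ≠ 1 →
      (∑ χ : B, conj (F χ v) * F χ w) = if ∃ t : stab P c, t • v = w then
        (r v : ℂ) * (r v : ℂ) * (Nat.card P : ℂ) else 0 := by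
    intro v w hv hw
    rw [← Finset.sum_subtype (Finset.univ.filter fun χ : Cfsg.IrrCharacter G => χ ∈ B)
      (fun χ => by simp) (fun χ => conj (F χ v) * F χ w), Finset.sum_filter]
    split_ifs with hex
    · obtain ⟨t, rfl⟩ := hex
      simp only [hFt, hFD _ v hv, map_mul, Complex.conj_natCast]
      rw [← sum_Dval_sq hM hmax hab hfree v.2 (hne1 v hv), Finset.mul_sum]
      exact Finset.sum_congr rfl fun χ _ => by split_ifs <;> ring
    · push Not at hex
      simp only [hFD _ v hv, hFD _ w hw, map_mul, Complex.conj_natCast]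
      rw [Finset.sum_congr rfl (g := fun χ => (r v : ℂ) * (r w : ℂ) *
        if χ ∈ B then conj (Dval p M P c χ (v : G)) * Dval p M P c χ (w : G) else 0) fun χ _ => by
          split_ifs <;> ring, ← Finset.mul_sum,
        sum_Dval_ne hM hmax hab hfree v.2 (hne1 v hv) w.2 (hne1 w hw)
          (fun t ht h1 => hex ⟨t, ht⟩ (Subtype.ext h1)), mul_zero]
  have hrt : ∀ (t : stab P c) (v : P), v ≠ 1 → r (t • v) = r v := by
    intro t v hv
    have hw : t • v ≠ 1 := fun h1 => hv (hsm1 t v h1)
    have h1 := hFF (t • v) (t • v) hw hw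
    rw [if_pos ⟨1, one_smul _ _⟩] at h1
    have h2 := hFF v v hv hv
    rw [if_pos ⟨1, one_smul _ _⟩] at h2
    rw [Finset.sum_congr rfl fun χ _ => by rw [hFt], h2] at h1
    have h3 : r v * r v = r (t • v) * r (t • v) := by
      have := mul_right_cancel₀ hcardP h1
      exact_mod_cast this
    exact (Nat.mul_self_inj.1 h3).symm
  have hht : ∀ (t : stab P c) (v : P), v ≠ 1 → h (t • v) = h v := by
    intro t v hv
    rw [hh v hv, hh _ fun h1 => hv (hsm1 t v h1)]
    have h3 : rVal hM j (Subgroup.zpowers ((t • v : P) : G)) =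
        rVal hM j (Subgroup.zpowers (v : G)) := hrt t v hv
    simp only [hVal, h3]
  have hhr : ∀ v : P, v ≠ 1 → (h v : ℂ) * h v = (r v : ℂ) * r v := by
    intro v hv
    rw [hh v hv]
    rcases hVal_eq (hM := hM) (j := j) (Subgroup.zpowers (v : G)) with h1 | h1 <;> rw [h1] <;>
      simp [hr]
  have hh0 : ∀ v : P, v ≠ 1 → (h v : ℂ) ≠ 0 := fun v hv h0 => hr0 v hv (by
    have := hhr v hv
    rw [h0, zero_mul] at this
    exact mul_self_eq_zero.1 this.symm)
  have hhp : ∀ v : P, v ≠ 1 → ¬ (p : ℤ) ∣ h v := by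
    intro v hv hd
    refine not_dvd_rVal hmax hab hfree hj (Subgroup.zpowers_le.2 v.2)
      (by simpa using hne1 v hv) ?_
    rw [hh v hv] at hd
    rcases hVal_eq (hM := hM) (j := j) (Subgroup.zpowers (v : G)) with h1 | h1 <;> rw [h1] at hd
    · exact hd
    · exact dvd_neg.1 hd
  -- the functions
  set Gf : Cfsg.IrrCharacter G → P → ℂ :=
    fun χ v => if v = 1 then 0 else conj (F χ v) / (h v : ℂ) with hGf
  have hG1 : ∀ χ, Gf χ 1 = 0 := fun χ => if_pos rfl
  have hGt : ∀ χ (t : stab P c) (v : P), Gf χ (t • v) = Gf χ v := by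
    intro χ t v
    by_cases hv : v = 1
    · subst hv
      rw [show t • (1 : P) = 1 from map_one (φ t)]
    · simp only [hGf, if_neg hv, if_neg fun h1 => hv (hsm1 t v h1), hFt, hht t v hv]
  have hGint : ∀ χ v, IsIntegral ℤ (Gf χ v) := by
    intro χ v
    by_cases hv : v = 1
    · rw [hv, hG1]; exact isIntegral_zero
    · have hsign : (r v : ℂ) / (h v : ℂ) = 1 ∨ (r v : ℂ) / (h v : ℂ) = -1 :=
        mul_self_eq_one_iff.1 (by
          rw [div_mul_div_comm, hhr v hv, div_self (mul_ne_zero (hr0 v hv) (hr0 v hv))])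
      have hD : IsIntegral ℤ (conj (Dval p M P c χ (v : G))) :=
        (isIntegral_Dval χ (v : G)).map (starRingEnd ℂ).toIntAlgHom
      simp only [hGf, if_neg hv, hFD χ v hv, map_mul, Complex.conj_natCast]
      rw [mul_comm, mul_div_assoc]
      rcases hsign with h1 | h1 <;> rw [h1]
      · rwa [mul_one]
      · rw [mul_neg, mul_one]; exact hD.neg
  -- the orbit functions
  set fO : ι → P → ℂ := fun O v => ∑ l ∈ O.1, (l v : ℂ) - e with hfO
  have hf1 : ∀ O, fO O 1 = 0 := fun O => by
    simp [hfO, (hι O.1 O.2).1]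
  have hfint : ∀ O v, IsIntegral ℤ (fO O v) := fun O v =>
    (IsIntegral.sum _ fun l _ => IsChar.isIntegral (CharInduce.isCharacter_hom l) v).sub
      (isIntegral_algebraMap (x := (e : ℤ)) |> fun h => by simpa using h)
  have hft : ∀ O (t : stab P c) (v : P), fO O (t • v) = fO O v := by
    intro O t v
    simp only [hfO]
    congr 1
    refine Finset.sum_bij (fun l _ => l.comp (φ t).toMonoidHom) (fun l hl => (hι O.1 O.2).2.2.1 t l hl)
      (fun l _ l' _ hll => ?_) (fun l hl => ⟨l.comp (φ t⁻¹).toMonoidHom, (hι O.1 O.2).2.2.1 t⁻¹ l hl,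
        MonoidHom.ext fun w => ?_⟩) fun l _ => rfl
    · refine MonoidHom.ext fun w => ?_
      have := DFunLike.congr_fun hll ((φ t).symm w)
      simpa using this
    · show l (φ t⁻¹ (φ t w)) = l w
      rw [← MulAut.mul_apply, ← map_mul, inv_mul_cancel, map_one]
      rfl
  set L : Cfsg.IrrCharacter G → ι → ℂ :=
    fun χ O => ((e : ℂ) * Nat.card P)⁻¹ * ∑ v : P, fO O v * Gf χ v with hL
  -- integrality
  have hLint : ∀ χ O, ∃ z : ℤ, L χ O = (z : ℂ) := by
    intro χ O
    obtain ⟨Q, N, hN, hQ⟩ := exists_inverse hp.out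
      ((Finset.univ.filter fun v : P => v ≠ 1).image h) fun z hz => by
        obtain ⟨v, hv, rfl⟩ := Finset.mem_image.1 hz
        exact hhp v (Finset.mem_filter.1 hv).2
    have hfgen : Cfsg.IsGeneralizedCharacter P (fO O) := by
      have hconst : Cfsg.IsGeneralizedCharacter P (fun _ : P => ((e : ℤ) : ℂ)) := by
        have := CharInduce.IsGen.zsmul (CharInduce.IsGen.of_char (CharInduce.IsChar.one (G := P)))
          (e : ℤ)
        convert this using 1
        funext v
        simp
      have hsum : Cfsg.IsGeneralizedCharacter P (fun v => ∑ l ∈ O.1, (l v : ℂ)) := by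
        have h0 : ∀ S : Finset (P →* ℂˣ),
            Cfsg.IsGeneralizedCharacter P (fun v => ∑ l ∈ S, (l v : ℂ)) := by
          intro S
          induction S using Finset.induction with
          | empty =>
            have := CharInduce.IsGen.zsmul (CharInduce.IsGen.of_char
              (CharInduce.IsChar.one (G := P))) (0 : ℤ)
            convert this using 1
            funext v
            simp
          | insert l S hl ih =>
            have := CharInduce.IsGen.add
              (CharInduce.IsGen.of_char (CharInduce.isCharacter_hom l)) ih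
            convert this using 1
            funext v
            simp [Finset.sum_insert hl]
        exact h0 O.1
      have := CharInduce.IsGen.sub hsum hconst
      convert this using 1
      funext v
      simp [hfO]
    obtain ⟨z, hz⟩ := exists_sum_eq (CharInduce.IsGen.mul (CharInduce.IsGen.mul hfgen
      (CharInduce.IsGen.of_char (CharInduce.IsChar.conj (isCharacter_Fval hmax hj χ))))
      (isGen_poly hgen Q))
    have hterm : ∀ v : P, fO O v * conj (F χ v) * Polynomial.aeval (h v : ℂ) Q =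
        (N : ℂ) * (fO O v * Gf χ v) := by
      intro v
      by_cases hv : v = 1
      · rw [hv, hf1, zero_mul, zero_mul, zero_mul, mul_zero]
      · have hQv : (h v : ℂ) * Polynomial.aeval (h v : ℂ) Q = (N : ℂ) := by
          have h1 := hQ (h v) (Finset.mem_image_of_mem h
            (Finset.mem_filter.2 ⟨Finset.mem_univ _, hv⟩))
          rw [show (h v : ℂ) = algebraMap ℤ ℂ (h v) from rfl,
            Polynomial.aeval_algebraMap_apply_eq_algebraMap_eval, ← map_mul, h1]
          rfl
        simp only [hGf, if_neg hv]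
        rw [← hQv]
        field_simp [hh0 v hv]
    simp only [Pi.mul_apply] at hz
    rw [Finset.sum_congr rfl fun v _ => hterm v, ← Finset.mul_sum] at hz
    have hN0 : N * (e : ℤ) ≠ 0 := mul_ne_zero (fun h0 => hN (h0 ▸ dvd_zero _)) (by exact_mod_cast he0)
    refine exists_int_of_coprime (m := z) (d := Nat.card P) ?_ hN0 ?_ ?_
    · refine IsCoprime.mul_left (isCoprime_card hP hN) ?_
      exact ⟨-(ι.card : ℤ), 1, by
        have : ((ι.card * e + 1 : ℕ) : ℤ) = (Nat.card P : ℤ) := by rw [hcount]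
        push_cast at this
        linarith⟩
    · simp only [hL]
      push_cast
      field_simp
      linear_combination hz
    · have havg := isIntegral_avg (T := stab P c) (fun v : P => fO O v * Gf χ v)
        (fun t v => by rw [hft, hGt]) (fun v => (hfint O v).mul (hGint χ v)) (m := m)
        (fun v => by
          by_cases hv : v = 1
          · left; rw [hv, hG1, mul_zero]
          · right; rw [hstabP v hv])
      convert havg using 1
      simp only [hL, hTe, Nat.cast_mul]
      field_simp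
  choose a ha using fun χ O => hLint χ O
  -- orthogonality of linear characters
  have hconjl : ∀ (l : P →* ℂˣ) (v : P), conj (l v : ℂ) = ((l⁻¹ : P →* ℂˣ) v : ℂ) := conj_hom
  have horth : ∀ l l' : P →* ℂˣ, ∑ v : P, (l v : ℂ) * conj (l' v : ℂ) =
      if l = l' then (Nat.card P : ℂ) else 0 := by
    intro l l'
    have h1 := classInner_irrCharacter (irrOf l) (irrOf l')
    rw [classInner_def] at h1
    simp only [irrOf_apply] at h1
    rw [inv_mul_eq_iff_eq_mul₀ hcardP] at h1
    rw [h1]
    by_cases hll : l = l'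
    · rw [if_pos hll, if_pos (congrArg irrOf hll), mul_one]
    · rw [if_neg hll, if_neg fun h2 => hll (by rw [← homOf_irrOf l, h2, homOf_irrOf]), mul_zero]
  have hfprod : ∀ O O' : ι, ∑ v : P, fO O v * conj (fO O' v) =
      (Nat.card P : ℂ) * ((if O = O' then (e : ℂ) else 0) + (e : ℂ) * e) := by
    intro O O'
    obtain ⟨hc1, h11, -, -⟩ := hι O.1 O.2
    obtain ⟨hc2, h12, -, -⟩ := hι O'.1 O'.2
    have hsum1 : ∀ l : P →* ℂˣ, l ≠ 1 → ∑ v : P, (l v : ℂ) = 0 := fun l hl => by
      have := horth l 1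
      simpa [hl] using this
    simp only [hfO, map_sub, map_sum, Complex.conj_natCast, sub_mul, mul_sub, Finset.sum_mul,
      Finset.mul_sum, Finset.sum_sub_distrib, Finset.sum_const, Finset.card_univ, nsmul_eq_mul]
    rw [Finset.sum_comm, Finset.sum_congr rfl fun l _ => Finset.sum_comm]
    simp only [horth]
    have hz1 : ∑ v : P, ∑ l ∈ O.1, (l v : ℂ) * (e : ℂ) = 0 := by
      rw [Finset.sum_comm]
      exact Finset.sum_eq_zero fun l hl => by
        rw [← Finset.sum_mul, hsum1 l fun h1 => h11 (h1 ▸ hl), zero_mul]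
    have hz2 : ∑ v : P, ∑ l ∈ O'.1, (e : ℂ) * conj (l v : ℂ) = 0 := by
      rw [Finset.sum_comm]
      exact Finset.sum_eq_zero fun l hl => by
        rw [← Finset.mul_sum, ← map_sum, hsum1 l fun h1 => h12 (h1 ▸ hl), map_zero, mul_zero]
    rw [hz1, hz2, Nat.card_eq_fintype_card]
    by_cases hOO : O = O'
    · subst hOO
      rw [Finset.sum_congr rfl (g := fun _ => (Fintype.card P : ℂ)) fun l hl => by
        rw [Finset.sum_ite_eq', if_pos hl], Finset.sum_const, hc1, if_pos rfl, nsmul_eq_mul]
      ring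
    · have hd := hdisj O.1 O.2 O'.1 O'.2 fun h1 => hOO (Subtype.ext h1)
      rw [Finset.sum_eq_zero fun l hl => ?_, if_neg hOO]
      · ring
      · rw [Finset.sum_ite_eq', if_neg (Finset.disjoint_right.1 hd hl)]
  -- the conclusion
  have hnonempty : ι.Nonempty := by
    rw [← Finset.card_pos]
    by_contra h0
    rw [Nat.eq_zero_of_not_pos h0] at hcount
    omega
  refine ⟨ι, inferInstance, inferInstance, hnonempty.to_subtype, fun χ O => a χ O, ?_, ?_, ?_, ?_⟩
  · intro O O'
    refine Int.cast_injective (α := ℂ) ?_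
    push_cast
    have hreal : ∀ χ : B, (a χ O : ℂ) * (a χ O' : ℂ) = L χ O * conj (L χ O') := fun χ => by
      rw [ha, ha, map_intCast]
    rw [Finset.sum_congr rfl fun χ _ => hreal χ]
    simp only [hL, map_mul, map_sum, map_inv₀, Complex.conj_natCast]
    have hmid : ∀ v : P, ∑ w : P, ∑ χ : B, Gf χ v * conj (Gf χ w) * conj (fO O' w) =
        (e : ℂ) * Nat.card P * conj (fO O' v) := by
      intro v
      by_cases hv : v = 1
      · simp [hv, hG1, hf1]
      have hval : ∀ w : P, ∑ χ : B, Gf χ v * conj (Gf χ w) * conj (fO O' w) =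
          if ∃ t : stab P c, t • v = w then (Nat.card P : ℂ) * conj (fO O' v) else 0 := by
        intro w
        by_cases hw : w = 1
        · rw [hw, if_neg fun ⟨t, ht⟩ => hv (hsm1 t v ht)]
          simp [hG1]
        · rw [← Finset.sum_mul, Finset.sum_congr rfl (g := fun χ : B =>
            (conj (F χ v) * F χ w) / ((h v : ℂ) * (h w : ℂ))) fun χ _ => by
              simp only [hGf, if_neg hv, if_neg hw, map_div₀, map_intCast, Complex.conj_conj]
              rw [div_mul_div_comm], ← Finset.sum_div, hFF v w hv hw]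
          split_ifs with hex
          · obtain ⟨t, rfl⟩ := hex
            rw [hht t v hv, hft, hhr v hv, mul_comm _ (Nat.card P : ℂ),
              mul_div_cancel_right₀ _ (mul_ne_zero (hr0 v hv) (hr0 v hv))]
          · rw [zero_div, zero_mul]
      rw [Finset.sum_congr rfl fun w _ => hval w, ← Finset.sum_filter, Finset.sum_const,
        nsmul_eq_mul]
      have hcardorb : (Finset.univ.filter fun w : P => ∃ t : stab P c, t • v = w).card = e := by
        rw [← he, Subgroup.relIndex, ← hstabP v hv, MulAction.index_stabilizer,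
          ← Set.ncard_coe_finset]
        congr 1
        ext w
        simp [MulAction.mem_orbit_iff]
      rw [hcardorb]
      ring
    calc ∑ χ : B, ((e : ℂ) * Nat.card P)⁻¹ * (∑ v, fO O v * Gf χ v) *
          (((e : ℂ) * Nat.card P)⁻¹ * ∑ w, conj (fO O' w) * conj (Gf χ w))
        = ((e : ℂ) * Nat.card P)⁻¹ * ((e : ℂ) * Nat.card P)⁻¹ *
            ∑ v : P, fO O v * ∑ w : P, ∑ χ : B, Gf χ v * conj (Gf χ w) * conj (fO O' w) := by
          simp only [Finset.mul_sum, Finset.sum_mul]
          conv_rhs => arg 2; ext v; rw [Finset.sum_comm]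
          conv_rhs => rw [Finset.sum_comm]
          refine Finset.sum_congr rfl fun χ _ => ?_
          rw [Finset.sum_comm]
          exact Finset.sum_congr rfl fun v _ => Finset.sum_congr rfl fun w _ => by ring
      _ = ((e : ℂ) * Nat.card P)⁻¹ * ∑ v : P, fO O v * conj (fO O' v) := by
          rw [Finset.mul_sum, Finset.mul_sum]
          refine Finset.sum_congr rfl fun v _ => ?_
          rw [hmid]
          field_simp
      _ = _ := by
          rw [hfprod]
          split_ifs <;> field_simp <;> ring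
  · intro χ
    by_contra hc0
    push Not at hc0
    obtain ⟨v₀, hv₀⟩ : ∃ v : P, v ≠ 1 := by
      obtain ⟨x, hx, hx1⟩ := P.bot_or_exists_ne_one.resolve_left hP1
      exact ⟨⟨x, hx⟩, fun h1 => hx1 (congrArg Subtype.val h1)⟩
    set W : (P →* ℂˣ) → ℂ := fun l => ∑ v : P, (l v : ℂ) * Gf χ v with hW
    have hWt : ∀ (t : stab P c) (l : P →* ℂˣ), W (l.comp (φ t).toMonoidHom) = W l := fun t l => by
      refine Fintype.sum_equiv (φ t).toEquiv _ _ fun v => ?_
      show (l (φ t v) : ℂ) * Gf χ v = (l (φ t v) : ℂ) * Gf χ (φ t v)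
      rw [show Gf χ (φ t v) = Gf χ v from hGt χ t v]
    have hconst : ∀ l : P →* ℂˣ, W l = W 1 := by
      intro l
      by_cases hl : l = 1
      · rw [hl]
      obtain ⟨O, hO, hlO⟩ := hcov l hl
      obtain ⟨hc1, -, -, hconn⟩ := hι O hO
      have h0 := hc0 ⟨O, hO⟩
      have h1 : L χ ⟨O, hO⟩ = 0 := by rw [ha, h0, Int.cast_zero]
      rw [hL] at h1
      simp only [mul_eq_zero, inv_eq_zero, heC, hcardP, false_or, hfO, sub_mul,
        Finset.sum_sub_distrib, Finset.sum_mul] at h1
      rw [Finset.sum_comm, Finset.sum_congr rfl (g := fun _ => W l) fun l' hl' => by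
        obtain ⟨t, rfl⟩ := hconn l hlO l' hl'
        exact hWt t l, Finset.sum_const, hc1, nsmul_eq_mul, ← Finset.mul_sum, ← mul_sub,
        mul_eq_zero] at h1
      have h2 := sub_eq_zero.1 (h1.resolve_left heC)
      rw [h2, hW]
      simp
    have hexp : Gf χ = ∑ ψ : Cfsg.IrrCharacter P,
        Cfsg.classInner (Gf χ) (ψ : P → ℂ) • (ψ : P → ℂ) :=
      classFunction_expansion fun a b => by
        rw [show b * a * b⁻¹ = a by rw [mul_comm b a, mul_inv_cancel_right]]
    have hco : ∀ ψ : Cfsg.IrrCharacter P, Cfsg.classInner (Gf χ) (ψ : P → ℂ) =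
        (Nat.card P : ℂ)⁻¹ * W 1 := by
      intro ψ
      rw [classInner_def]
      congr 1
      rw [← hconst (homOf ψ)⁻¹]
      exact Finset.sum_congr rfl fun v _ => by rw [homOf_apply, hconjl, mul_comm]
    have hG0 : Gf χ v₀ = 0 := by
      rw [hexp]
      simp only [hco, Finset.sum_apply, Pi.smul_apply, smul_eq_mul, ← Finset.mul_sum]
      have h2 := sum_degree_mul_apply (G := P) v₀
      rw [if_neg hv₀, Finset.sum_congr rfl fun ψ _ => by
        rw [CharInduce.IsIrr.degree_one_of_comm mul_comm ψ.2, one_mul]] at h2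
      rw [h2, mul_zero]
    simp only [hGf, if_neg hv₀, div_eq_zero_iff, hh0 v₀ hv₀, or_false, map_eq_zero] at hG0
    rw [hFD χ v₀ hv₀] at hG0
    exact Dval_ne_zero hM hmax hab hfree v₀.2 (hne1 v₀ hv₀) χ.2
      ((mul_eq_zero.1 hG0).resolve_left (hr0 v₀ hv₀))
  · refine ⟨fun χ => (Cfsg.charDegree ((χ : Cfsg.IrrCharacter G) : G → ℂ) : ℤ), fun χ h0 => ?_,
      fun O => ?_⟩
    · refine IsIrr.one_ne_zero χ.1.2 ?_
      rw [(H83.charDegree_eq χ.1.2).1]
      dsimp only at h0
      exact_mod_cast h0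
    · refine Int.cast_injective (α := ℂ) ?_
      push_cast
      rw [Finset.sum_congr rfl (g := fun χ : B =>
        ((χ : Cfsg.IrrCharacter G) : G → ℂ) 1 * L χ O) fun χ _ => by
          rw [← (H83.charDegree_eq χ.1.2).1, ← ha]]
      simp only [hL, Finset.mul_sum]
      rw [Finset.sum_comm]
      refine Finset.sum_eq_zero fun v _ => ?_
      by_cases hv : v = 1
      · simp [hv, hG1]
      have h0 := sum_degree_mul_Dval hM hmax hab hfree v.2 (hne1 v hv)
      rw [← Finset.sum_filter, Finset.sum_subtype (p := fun χ => χ ∈ B)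
        (Finset.univ.filter fun χ : Cfsg.IrrCharacter G => χ ∈ B) (fun χ => by simp)] at h0
      rw [Finset.sum_congr rfl (g := fun χ : B => ((e : ℂ) * Nat.card P)⁻¹ * fO O v *
        ((r v : ℂ) / (h v : ℂ)) * (((χ : Cfsg.IrrCharacter G) : G → ℂ) 1 *
          conj (Dval p M P c χ (v : G)))) fun χ _ => by
          simp only [hGf, if_neg hv, hFD _ v hv, map_mul, Complex.conj_natCast]
          ring, ← Finset.mul_sum, h0, mul_zero]
  · rw [Fintype.card_coe]
    exact hcount

end Cfsg.Agent.H80.PuigUsami
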