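import Cfsg.Agent.H80.PuigUsami.Comb
import Cfsg.Agent.H80.PuigUsami.Vectors
import Cfsg.Agent.H80.Watanabe.Bot
import Cfsg.Agent.H80.Watanabe.Main
import Cfsg.Agent.H83.CentralOrderP
import Cfsg.Agent.H82.CycLower
import Cfsg.Agent.S4689

/-!
Puig–Usami: the invariants of a block with commutative defect group and free inertial action.
-/

set_option linter.style.haveILetI false

namespace Cfsg.Agent.H80.PuigUsami

open H83 H83.Star BlockBasic CharBasic Watanabe

universe u

variable {p : ℕ} [hp : Fact p.Prime] {M : Ideal Cfsg.AlgInt} {G : Type u} [Group G] [Fintype G]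
  {B : Set (Cfsg.IrrCharacter G)} {P : Subgroup G}
  {c : Set (Cfsg.IrrCharacter (Subgroup.centralizer (P : Set G)))}

/-- The counting identity. -/
theorem card_identity (hM : Cfsg.IsPModular p M) (hmax : Cfsg.IsMaximalBrauerPair p M B P c)
    (hab : ∀ x ∈ P, ∀ y ∈ P, x * y = y * x) (hfree : FreeAct P c) {e : ℕ}
    (he : (Subgroup.centralizer (P : Set G)).relIndex (stab P c) = e) :
    e * Nat.card B + 1 = e * Cfsg.blockRank p B + Nat.card P := by
  classical
  have hPc := hmax.1.1
  have hCT : Subgroup.centralizer (P : Set G) ≤ stab P c :=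
    H82.centralizer_le_stab hM hPc.2 fun g => (H82.stabilizesBlock_iff_conjPair hM hPc.2).symm
  have hTe : Nat.card (stab P c) = e * Nat.card (Subgroup.centralizer (P : Set G)) := by
    rw [← he, Subgroup.relIndex, mul_comm,
      ← Nat.card_congr (Subgroup.subgroupOfEquivOfLe hCT).toEquiv, Subgroup.card_mul_index]
  have h := count_identity hM hmax hab 1 fun _ _ _ => rfl
  rw [if_pos rfl, ← Finset.add_sum_erase _ _ (Finset.mem_univ (1 : P))] at h
  have h1 : (stab P c ⊓ Subgroup.centralizer ({((1 : P) : G)} : Set G) : Subgroup G) = stab P c :=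
    inf_eq_left.2 fun x _ => Subgroup.mem_centralizer_singleton_iff.2 (by simp)
  have hbot : Subgroup.zpowers ((1 : P) : G) = ⊥ := by simp
  rw [h1, hbot, (bot_pair hM hmax).1, Finset.sum_congr rfl
    (g := fun _ => (Nat.card (Subgroup.centralizer (P : Set G)) : ℂ)) fun v hv => ?_,
    Finset.sum_const, Finset.card_erase_of_mem (Finset.mem_univ _), Finset.card_univ,
    ← Nat.card_eq_fintype_card, hTe, nsmul_eq_mul] at h
  · have hP := Nat.card_pos (α := P)
    have hC : (Nat.card (Subgroup.centralizer (P : Set G)) : ℂ) ≠ 0 :=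
      Nat.cast_ne_zero.2 Nat.card_pos.ne'
    simp only [MonoidHom.one_apply, Units.val_one, Nat.cast_mul, mul_one,
      Nat.cast_sub (Nat.one_le_iff_ne_zero.2 hP.ne'), Nat.cast_one] at h
    refine Nat.cast_injective (R := ℂ) ?_
    push_cast
    refine mul_right_cancel₀ hC ?_
    linear_combination -h
  · have hv1 : (v : G) ≠ 1 := fun h1 => (Finset.mem_erase.1 hv).1 (Subtype.ext h1)
    have hstab : (stab P c ⊓ Subgroup.centralizer ({(v : G)} : Set G) : Subgroup G) =
        Subgroup.centralizer (P : Set G) := by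
      refine le_antisymm (fun x hx => hfree x hx.1 v v.2 hv1 ?_) (le_inf hCT
        (Subgroup.centralizer_le (Set.singleton_subset_iff.2 v.2)))
      rw [Subgroup.mem_centralizer_singleton_iff.1 hx.2, mul_inv_cancel_right]
    have hQ : Subgroup.zpowers (v : G) ≠ ⊥ := by simpa using hv1
    obtain ⟨f, -, hle⟩ := H82.exists_subpair hM hPc (Subgroup.zpowers_le.2 v.2)
    cases nonempty_fintype (Subgroup.centralizer ((Subgroup.zpowers (v : G) : Subgroup G) : Set G))
    rw [hstab, pairRank_eq hM hPc hle,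
      (S4689.result p M hM f (nilpotent_below hM hmax hab hfree hQ hle)).1]
    simp

/-- Cyclic defect groups: the rank is at least the inertial index. -/
theorem le_blockRank_of_cyclic (hM : Cfsg.IsPModular p M)
    (hmax : Cfsg.IsMaximalBrauerPair p M B P c) (hPD : Cfsg.IsDefectGroup p M B P)
    (hind : Cfsg.IsInducedBlock M (Subgroup.centralizer (P : Set G)) c B)
    (hP1 : P ≠ ⊥) (hcyc : IsCyclic P) {e : ℕ}
    (he : (Subgroup.centralizer (P : Set G)).relIndex (stab P c) = e) :
    e ≤ Cfsg.blockRank p B := by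
  obtain ⟨a, ha⟩ := IsPGroup.iff_card.1 hmax.1.1.1
  have ha1 : 1 ≤ a := Nat.one_le_iff_ne_zero.2 fun h0 =>
    hP1 (Subgroup.card_eq_one.1 (by rw [ha, h0, pow_zero]))
  obtain ⟨S, rfl, hb⟩ := H82.Cyc.exists_setup hM hcyc ha1 ha hmax.1.2.1 hPD hind
  obtain rfl := eq_of_heq hb
  have hT : S.T = stab S.D S.b := by
    ext g
    rw [S.hT, H82.stabilizesBlock_iff_conjPair hM S.hmax.1.1.2]
    rfl
  rw [← he, ← hT, S.e_eq]
  exact S.e_le_blockRank hM

theorem not_pow_eq_ten {q : ℕ} (hq : q.Prime) (b : ℕ) : ¬ 3 * 3 + 1 = q ^ b := fun h => by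
  have h2 : 2 = q := (Nat.prime_dvd_prime_iff_eq Nat.prime_two hq).1
    (Nat.prime_two.dvd_of_dvd_pow (h ▸ by norm_num : 2 ∣ q ^ b))
  have h5 : 5 = q := (Nat.prime_dvd_prime_iff_eq (by norm_num) hq).1
    ((by norm_num : Nat.Prime 5).dvd_of_dvd_pow (h ▸ by norm_num : 5 ∣ q ^ b))
  omega

/-- The invariants. -/
theorem main (hM : Cfsg.IsPModular p M) (hmax : Cfsg.IsMaximalBrauerPair p M B P c)
    (hPD : Cfsg.IsDefectGroup p M B P)
    (hind : Cfsg.IsInducedBlock M (Subgroup.centralizer (P : Set G)) c B)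
    (hab : ∀ x ∈ P, ∀ y ∈ P, x * y = y * x) (hfree : FreeAct P c) (hP1 : P ≠ ⊥) {e : ℕ}
    (he : (Subgroup.centralizer (P : Set G)).relIndex (stab P c) = e) :
    ∃ n, 1 ≤ e ∧ n * e + 1 = Nat.card P ∧ (Nat.card P - 1) / e = n ∧
      Nat.card B = Cfsg.blockRank p B + n ∧ Cfsg.blockRank p B ≤ e ∧
      (e ≤ 3 → Cfsg.blockRank p B = e) := by
  classical
  obtain ⟨ι, _, _, _, a, hg, hne, ⟨d, hd, hrel⟩, hcount⟩ := exists_vectors hM hmax hab hfree hP1 he
  have hcard := (Subgroup.one_lt_card_iff_ne_bot P).2 hP1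
  have he1 : 1 ≤ e := Nat.one_le_iff_ne_zero.2 fun h0 => by subst h0; rw [mul_zero] at hcount; omega
  set n := Fintype.card ι with hn
  have hid := card_identity hM hmax hab hfree he
  have hkl : Nat.card B = Cfsg.blockRank p B + n := by
    refine Nat.eq_of_mul_eq_mul_left he1 ?_
    rw [mul_add, mul_comm e n]
    omega
  have hl := H83.blockRank_pos hM hmax.1.2.1
  have hle := card_le hg hne
  rw [← Nat.card_eq_fintype_card (α := B)] at hle
  refine ⟨n, he1, hcount, ?_, hkl, by omega, fun he3 => ?_⟩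
  · rw [← hcount, Nat.add_sub_cancel, Nat.mul_div_cancel _ he1]
  · rcases card_eq hg hne he3 he1 (by rw [← Nat.card_eq_fintype_card (α := B)]; omega) hd hrel with
      h | ⟨h2, h3, h4⟩
    · rw [← Nat.card_eq_fintype_card (α := B)] at h
      omega
    · refine le_antisymm (by omega) ?_
      have hprime : (Nat.card P).Prime := by
        rw [← hn] at h3 h4
        obtain ⟨b, hb⟩ := IsPGroup.iff_card.1 hmax.1.1.1
        interval_cases e <;> interval_cases n <;> rw [← hcount]
        · norm_num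
        · exfalso
          rw [← hcount] at hb
          exact absurd hb (not_pow_eq_ten hp.out b)
        · norm_num
      haveI : Fact (Nat.card P).Prime := ⟨hprime⟩
      exact le_blockRank_of_cyclic hM hmax hPD hind hP1 (isCyclic_of_prime_card rfl) he

end Cfsg.Agent.H80.PuigUsami
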