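import Cfsg.Agent.CharInduce.Ops
import Cfsg.Agent.CharInduce.Transport
import Cfsg.Agent.CharBasic.Virtual
import Cfsg.Agent.H43.Galois
import Cfsg.Agent.H85.ModP
import Cfsg.Agent.H82.StarNilpotent

/-!
Generalized characters of finite commutative `p`-groups: division by integer valued characters,
and the normal form of a character all of whose values are integer multiples of roots of unity.
-/

set_option linter.style.haveILetI false
set_option linter.unusedSectionVars false

open scoped ComplexConjugate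
open Polynomial

namespace Cfsg.Agent.H80.PuigUsami

universe u

/-- An integer polynomial inverting a set of integers up to a factor prime to `p`. -/
theorem exists_inverse {p : ℕ} (hp : p.Prime) (S : Finset ℤ) (hS : ∀ z ∈ S, ¬ (p : ℤ) ∣ z) :
    ∃ (Q : ℤ[X]) (N : ℤ), ¬ (p : ℤ) ∣ N ∧ ∀ z ∈ S, z * Q.eval z = N := by
  induction S using Finset.induction with
  | empty => exact ⟨0, 1, fun h => hp.ne_one (Nat.dvd_one.1 (by exact_mod_cast h)), by simp⟩
  | insert b S hb ih =>
    obtain ⟨Q, N, hN, hQ⟩ := ih fun z hz => hS z (Finset.mem_insert_of_mem hz)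
    refine ⟨C b * Q + (C N - X * Q), b * N, fun h => ?_, fun z hz => ?_⟩
    · rcases (Nat.prime_iff_prime_int.1 hp).dvd_mul.1 h with h | h
      · exact hS b (Finset.mem_insert_self b S) h
      · exact hN h
    · simp only [eval_add, eval_mul, eval_C, eval_sub, eval_X]
      rcases Finset.mem_insert.1 hz with rfl | hz
      · ring
      · linear_combination (b - z) * hQ z hz

section Group

variable {G : Type u} [Group G] [Fintype G]

open CharInduce

/-- A polynomial in a generalized character. -/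
theorem isGen_poly {h : G → ℂ} (hh : Cfsg.IsGeneralizedCharacter G h) (Q : ℤ[X]) :
    Cfsg.IsGeneralizedCharacter G (fun x => aeval (h x) Q) := by
  have hone : Cfsg.IsGeneralizedCharacter G (fun _ => (1 : ℂ)) := IsGen.of_char IsChar.one
  induction Q using Polynomial.induction_on' with
  | add f g hf hg =>
    simp only [map_add]
    exact IsGen.add hf hg
  | monomial n c =>
    simp only [aeval_monomial, eq_intCast, algebraMap_int_eq, Int.coe_castRingHom]
    have hpow : Cfsg.IsGeneralizedCharacter G (fun x => h x ^ n) := by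
      induction n with
      | zero => simpa using hone
      | succ n ih =>
        simp only [pow_succ]
        exact IsGen.mul ih hh
    have := IsGen.zsmul hpow c
    convert this using 1
    funext x
    simp

/-- The sum of a generalized character is a multiple of the order. -/
theorem exists_sum_eq {θ : G → ℂ} (h : Cfsg.IsGeneralizedCharacter G θ) :
    ∃ z : ℤ, ∑ x, θ x = (Nat.card G : ℂ) * z := by
  obtain ⟨z, hz⟩ := IsGen.exists_int_coeff h IsChar.one
  refine ⟨z, ?_⟩
  rw [CharBasic.classInner_def] at hz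
  simp only [map_one, mul_one] at hz
  rw [← hz, ← mul_assoc, mul_inv_cancel₀ (Nat.cast_ne_zero.2 Nat.card_pos.ne'), one_mul]

/-- Coprime denominators. -/
theorem exists_int_of_coprime {c : ℂ} {m N : ℤ} {d : ℕ} (hN : IsCoprime N (d : ℤ)) (hN0 : N ≠ 0)
    (h : (N : ℂ) * c = m) (hd : IsIntegral ℤ ((d : ℂ) * c)) : ∃ z : ℤ, c = z := by
  obtain ⟨a, b, hab⟩ := hN
  have hab' : (a : ℂ) * N + (b : ℂ) * d = 1 := by exact_mod_cast hab
  have hc : IsIntegral ℤ c := by
    rw [show c = ((a * m : ℤ) : ℂ) + (b : ℂ) * ((d : ℂ) * c) by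
      push_cast; linear_combination (a : ℂ) * h - c * hab']
    exact (isIntegral_algebraMap (x := a * m)).add ((isIntegral_algebraMap (x := b)).mul hd)
  refine H43.int_of_rat_integral hc (q := (m : ℚ) / (N : ℚ)) ?_
  push_cast
  rw [eq_div_iff (Int.cast_ne_zero.2 hN0), mul_comm, h]

/-- An integer prime to `p` is coprime to the order of a `p`-group. -/
theorem isCoprime_card {p : ℕ} [hp : Fact p.Prime] (hG : IsPGroup p G) {N : ℤ}
    (hN : ¬ (p : ℤ) ∣ N) : IsCoprime N (Nat.card G : ℤ) := by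
  obtain ⟨k, hk⟩ := hG.exists_card_eq
  rw [hk, Nat.cast_pow]
  exact (((Nat.prime_iff_prime_int.1 hp.out).coprime_iff_not_dvd).2 hN).symm.pow_right

/-- Division by an integer valued generalized character with values prime to `p`. -/
theorem isGen_div {p : ℕ} [hp : Fact p.Prime] (hG : IsPGroup p G) {θ g : G → ℂ}
    (hθ : Cfsg.IsGeneralizedCharacter G θ) (hg : Cfsg.IsGeneralizedCharacter G g) {z : G → ℤ}
    (hz : ∀ x, g x = (z x : ℂ)) (hzp : ∀ x, ¬ (p : ℤ) ∣ z x)
    (hint : ∀ x, IsIntegral ℤ (θ x / g x)) :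
    Cfsg.IsGeneralizedCharacter G (fun x => θ x / g x) := by
  classical
  obtain ⟨Q, N, hN, hQ⟩ := exists_inverse hp.out (Finset.univ.image z) fun w hw => by
    obtain ⟨x, -, rfl⟩ := Finset.mem_image.1 hw
    exact hzp x
  have hN0 : N ≠ 0 := fun h => hN (h ▸ dvd_zero _)
  have hQg : ∀ x, (z x : ℂ) * aeval (g x) Q = (N : ℂ) := fun x => by
    have h := hQ (z x) (Finset.mem_image.2 ⟨x, Finset.mem_univ x, rfl⟩)
    rw [hz, show (z x : ℂ) = algebraMap ℤ ℂ (z x) from rfl, aeval_algebraMap_apply_eq_algebraMap_eval,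
      ← map_mul, h]
    rfl
  have hcl : Cfsg.IsClassFunction G (fun x => θ x / g x) := fun a b => by
    simp only [CharInduce.IsGen.isClassFunction hθ a b, CharInduce.IsGen.isClassFunction hg a b]
  refine isGeneralizedCharacter_of_coeff hcl fun ψ => ?_
  obtain ⟨m, hm⟩ := IsGen.exists_int_coeff (IsGen.mul hθ (isGen_poly hg Q))
    (CharBasic.IsIrr.isCharacter ψ.2)
  refine exists_int_of_coprime (m := m) (isCoprime_card hG hN) hN0 ?_ ?_
  · rw [← hm, ← CharBasic.classInner_smul_left]
    congr 1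
    funext x
    simp only [Pi.smul_apply, smul_eq_mul]
    have hzx : (z x : ℂ) ≠ 0 := Int.cast_ne_zero.2 fun h => hzp x (h ▸ dvd_zero _)
    rw [← mul_div_assoc, hz, div_eq_iff hzx, ← hQg x, hz, Pi.mul_apply, hz]
    ring
  · rw [CharBasic.classInner_def, ← mul_assoc,
      mul_inv_cancel₀ (Nat.cast_ne_zero.2 Nat.card_pos.ne'), one_mul]
    exact IsIntegral.sum _ fun x _ => (hint x).mul
      ((CharBasic.IsChar.isIntegral (CharBasic.IsIrr.isCharacter ψ.2) x).map
        (starRingEnd ℂ).toIntAlgHom)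

/-- A generalized character of constant absolute value one is linear. -/
theorem exists_hom_of_norm {θ : G → ℂ} (hθ : Cfsg.IsGeneralizedCharacter G θ) (h1 : θ 1 = 1)
    (hn : ∀ x, θ x * conj (θ x) = 1) : ∃ ν : G →* ℂˣ, ∀ x, θ x = (ν x : ℂ) := by
  have hin : Cfsg.classInner θ θ = 1 := by
    rw [CharBasic.classInner_def]
    simp [hn, Nat.card_eq_fintype_card]
  rcases CharBasic.IsGen.norm_one hθ hin with h | h
  · exact IsChar.exists_hom_of_degree_one (CharBasic.IsIrr.isCharacter h) h1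
  · exfalso
    obtain ⟨k, hk, hk'⟩ := CharBasic.IsIrr.exists_degree h
    rw [Pi.neg_apply, h1] at hk'
    have : ((k + 1 : ℕ) : ℂ) = 0 := by push_cast; rw [← hk']; ring
    exact absurd (Nat.cast_eq_zero.1 this) (Nat.succ_ne_zero k)

end Group

section Comm

variable {A : Type u} [CommGroup A] [Fintype A] {p : ℕ} [hp : Fact p.Prime]

open CharInduce

/-- The homomorphism of an irreducible character. -/
noncomputable def homOf (ψ : Cfsg.IrrCharacter A) : A →* ℂˣ :=
  (IsChar.exists_hom_of_degree_one (CharBasic.IsIrr.isCharacter ψ.2)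
    (IsIrr.degree_one_of_comm mul_comm ψ.2)).choose

theorem homOf_apply (ψ : Cfsg.IrrCharacter A) (x : A) : (ψ : A → ℂ) x = (homOf ψ x : ℂ) :=
  (IsChar.exists_hom_of_degree_one (CharBasic.IsIrr.isCharacter ψ.2)
    (IsIrr.degree_one_of_comm mul_comm ψ.2)).choose_spec x

/-- The irreducible character of a homomorphism. -/
noncomputable def irrOf (l : A →* ℂˣ) : Cfsg.IrrCharacter A :=
  ⟨fun x => (l x : ℂ), isIrrCharacter_hom l⟩

theorem irrOf_apply (l : A →* ℂˣ) (x : A) : (irrOf l : A → ℂ) x = (l x : ℂ) := rfl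

theorem homOf_irrOf (l : A →* ℂˣ) : homOf (irrOf l) = l :=
  MonoidHom.ext fun x => Units.ext (homOf_apply (irrOf l) x).symm

theorem irrOf_homOf (ψ : Cfsg.IrrCharacter A) : irrOf (homOf ψ) = ψ :=
  Subtype.ext (funext fun x => (homOf_apply ψ x).symm)

theorem conj_hom (l : A →* ℂˣ) (x : A) : conj (l x : ℂ) = ((l⁻¹ : A →* ℂˣ) x : ℂ) := by
  rw [MonoidHom.inv_apply, Units.val_inv_eq_inv_val, Complex.inv_eq_conj (norm_hom l x)]

/-- A square root of the twist of a character fixed by a twisted complex conjugation. -/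
theorem exists_sq_hom (hA : IsPGroup p A) {F : A → ℂ} (hF : Cfsg.IsCharacter A F) {ν : A →* ℂˣ}
    (hν : ∀ x, F x = (ν x : ℂ) * conj (F x)) {f : ℤ} (hf : F 1 = f) (hfp : ¬ (p : ℤ) ∣ f) :
    ∃ μ : A →* ℂˣ, μ * μ = ν := by
  rcases hp.out.eq_two_or_odd' with h2 | hodd
  · subst h2
    by_contra hne
    push Not at hne
    obtain ⟨m, hm, hFe⟩ := CharBasic.IsChar.exists_nat_mult hF
    let ι : Cfsg.IrrCharacter A → Cfsg.IrrCharacter A := fun ψ => irrOf (ν * (homOf ψ)⁻¹)
    have hι : ∀ ψ, ι (ι ψ) = ψ := fun ψ => by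
      simp only [ι, homOf_irrOf]
      refine Subtype.ext (funext fun x => ?_)
      rw [irrOf_apply, homOf_apply]
      congr 1
      show ν x * (ν x * (homOf ψ x)⁻¹)⁻¹ = homOf ψ x
      rw [mul_inv_rev, inv_inv, mul_comm (homOf ψ x), ← mul_assoc, mul_inv_cancel, one_mul]
    have hfree : ∀ ψ, ι ψ ≠ ψ := fun ψ h => hne (homOf ψ) (by
      have h' := congrArg homOf h
      simp only [ι, homOf_irrOf] at h'
      conv_lhs => arg 1; rw [← h']
      rw [inv_mul_cancel_right ν (homOf ψ)])
    have hmι : ∀ ψ, m (ι ψ) = m ψ := fun ψ => by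
      have h1 : Cfsg.classInner F (ι ψ : A → ℂ) = conj (Cfsg.classInner F (ψ : A → ℂ)) := by
        simp only [CharBasic.classInner_def, map_mul, map_inv₀, Complex.conj_natCast, map_sum]
        congr 1
        refine Finset.sum_congr rfl fun x _ => ?_
        simp only [ι, irrOf_apply, MonoidHom.mul_apply, MonoidHom.inv_apply, Units.val_mul,
          Units.val_inv_eq_inv_val, ← homOf_apply, map_mul, map_inv₀, Complex.conj_conj]
        conv_lhs => rw [hν x]
        have hn : (ν x : ℂ) * conj (ν x : ℂ) = 1 := by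
          rw [Complex.mul_conj', norm_hom]; simp
        have hi : (conj ((ψ : A → ℂ) x))⁻¹ = (ψ : A → ℂ) x := by
          rw [homOf_apply, Complex.inv_eq_conj (by rw [Complex.norm_conj, norm_hom]),
            Complex.conj_conj]
        rw [hi]
        linear_combination (conj (F x) * (ψ : A → ℂ) x) * hn
      rw [hm, hm, Complex.conj_natCast] at h1
      exact_mod_cast h1
    have heven : (∑ ψ, (m ψ : ZMod 2)) = 0 :=
      Finset.sum_involution (fun ψ _ => ι ψ)
        (fun ψ _ => by rw [hmι]; exact CharTwo.add_self_eq_zero _)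
        (fun ψ _ _ => hfree ψ) (fun ψ _ => Finset.mem_univ _) (fun ψ _ => hι ψ)
    have hf' : (f : ℂ) = ((∑ ψ, (m ψ : ℤ) : ℤ) : ℂ) := by
      rw [← hf, congrFun hFe 1]
      push_cast
      simp only [Finset.sum_apply, Pi.smul_apply, smul_eq_mul,
        IsIrr.degree_one_of_comm (fun a b : A => mul_comm a b) (Subtype.property _), mul_one]
    apply hfp
    rw [Int.cast_inj.1 hf']
    exact (ZMod.intCast_zmod_eq_zero_iff_dvd _ 2).1 (by push_cast; exact heven)
  · obtain ⟨k, hk⟩ := hA.exists_card_eq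
    obtain ⟨j, hj⟩ : Odd (Nat.card A) := hk ▸ hodd.pow
    refine ⟨ν ^ (j + 1), MonoidHom.ext fun x => ?_⟩
    show (ν x) ^ (j + 1) * (ν x) ^ (j + 1) = ν x
    rw [← pow_add, show j + 1 + (j + 1) = Nat.card A + 1 by omega, pow_succ, ← map_pow,
      pow_card_eq_one', map_one, one_mul]

/-- The failure to be constant modulo four is that of a real linear character. -/
def LinFour (f : A → ℤ) : Prop :=
  ∃ κ : A →* ℂˣ, κ * κ = 1 ∧
    ∀ x, (κ x = 1 → (4 : ℤ) ∣ f x - f 1) ∧ (κ x ≠ 1 → (4 : ℤ) ∣ f x - f 1 - 2)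

theorem eq_neg_one_of_sq {κ : A →* ℂˣ} (hκ : κ * κ = 1) {x : A} (hx : κ x ≠ 1) :
    (κ x : ℂ) = -1 := by
  have h : (κ x : ℂ) * (κ x : ℂ) = 1 := by
    rw [← Units.val_mul, ← MonoidHom.mul_apply, hκ]; rfl
  exact (mul_self_eq_one_iff.1 h).resolve_left fun h' => hx (Units.ext h')

theorem LinFour.zero : LinFour (0 : A → ℤ) :=
  ⟨1, one_mul (1 : A →* ℂˣ), fun x => ⟨fun _ => by simp, fun h => absurd rfl h⟩⟩

theorem LinFour.add {f g : A → ℤ} (hf : LinFour f) (hg : LinFour g) : LinFour (f + g) := by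
  obtain ⟨κ, hκ, h1⟩ := hf
  obtain ⟨κ', hκ', h2⟩ := hg
  refine ⟨κ * κ', by rw [mul_mul_mul_comm κ κ' κ κ', hκ, hκ', one_mul (1 : A →* ℂˣ)], fun x => ?_⟩
  simp only [Pi.add_apply, MonoidHom.mul_apply]
  by_cases ha : κ x = 1 <;> by_cases hb : κ' x = 1
  · refine ⟨fun _ => ?_, fun h => absurd (by rw [ha, hb, one_mul]) h⟩
    have := (h1 x).1 ha; have := (h2 x).1 hb; omega
  · refine ⟨fun h => absurd (by rwa [ha, one_mul] at h) hb, fun _ => ?_⟩
    have := (h1 x).1 ha; have := (h2 x).2 hb; omega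
  · refine ⟨fun h => absurd (by rwa [hb, mul_one] at h) ha, fun _ => ?_⟩
    have := (h1 x).2 ha; have := (h2 x).1 hb; omega
  · refine ⟨fun _ => ?_, fun h => absurd (Units.ext ?_) h⟩
    · have := (h1 x).2 ha; have := (h2 x).2 hb; omega
    · rw [Units.val_mul, eq_neg_one_of_sq hκ ha, eq_neg_one_of_sq hκ' hb]
      simp

theorem LinFour.smul {f : A → ℤ} (c : ℤ) (hf : LinFour f) : LinFour (c • f) := by
  obtain ⟨κ, hκ, h1⟩ := hf
  obtain ⟨t, rfl | rfl⟩ : ∃ t, c = 2 * t ∨ c = 2 * t + 1 := ⟨c / 2, by omega⟩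
  · refine ⟨1, one_mul (1 : A →* ℂˣ), fun x => ⟨fun _ => ?_, fun h => absurd rfl h⟩⟩
    simp only [Pi.smul_apply, smul_eq_mul, ← mul_sub]
    by_cases ha : κ x = 1
    · exact dvd_mul_of_dvd_right ((h1 x).1 ha) _
    · obtain ⟨w, hw⟩ := (h1 x).2 ha
      exact ⟨t * (2 * w + 1), by rw [show f x - f 1 = 4 * w + 2 by omega]; ring⟩
  · refine ⟨κ, hκ, fun x => ⟨fun ha => ?_, fun ha => ?_⟩⟩
    · simp only [Pi.smul_apply, smul_eq_mul, ← mul_sub]
      exact dvd_mul_of_dvd_right ((h1 x).1 ha) _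
    · obtain ⟨w, hw⟩ := (h1 x).2 ha
      exact ⟨t * (2 * w + 1) + w, by
        simp only [Pi.smul_apply, smul_eq_mul, ← mul_sub, show f x - f 1 = 4 * w + 2 by omega]
        ring⟩

set_option maxHeartbeats 3000000 in
open scoped Classical in
/-- An integer valued generalized character of a commutative `2`-group modulo four. -/
theorem linFour_of_gen (hA : IsPGroup 2 A) {Z : A → ℤ}
    (hZ : Cfsg.IsGeneralizedCharacter A (fun x => (Z x : ℂ))) : LinFour Z := by
  obtain ⟨m, hm, hZe⟩ := CharBasic.IsGen.exists_int_mult hZ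
  obtain ⟨a₀, ha₀⟩ := hA.exists_card_eq
  have hconst : ∀ (l : A →* ℂˣ) (k : ℕ), k.Coprime (Nat.card A) →
      m (irrOf ((powMonoidHom k).comp l)) = m (irrOf l) := by
    intro l k hk
    obtain ⟨σ, hσ⟩ := H43.exists_aut_pow (n := Nat.card A) Nat.card_pos.ne' hk
    have h1 : ∀ x, (Z (x ^ k) : ℂ) = (Z x : ℂ) := fun x => by
      rw [← H82.Star.aut_apply_pow hZ σ hσ x, map_intCast]
    have h2 : (m (irrOf ((powMonoidHom k).comp l)) : ℂ) = (m (irrOf l) : ℂ) := by
      rw [← hm, ← hm, CharBasic.classInner_def, CharBasic.classInner_def]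
      congr 1
      refine Fintype.sum_equiv (powCoprime hk.symm) _ _ fun x => ?_
      show (Z x : ℂ) * conj ((l x ^ k : ℂˣ) : ℂ) = (Z (x ^ k) : ℂ) * conj ((l (x ^ k) : ℂˣ) : ℂ)
      rw [h1, map_pow l x k]
    exact_mod_cast h2
  let K : Cfsg.IrrCharacter A → Subgroup (A → ℂˣ) := fun ψ => Subgroup.zpowers (⇑(homOf ψ))
  -- one class of characters
  have hclass : ∀ ψ₀ : Cfsg.IrrCharacter A, ∃ g : A → ℤ, LinFour g ∧ ∀ x,
      ∑ ψ ∈ Finset.univ.filter (fun ψ => K ψ = K ψ₀), (m ψ : ℂ) * (ψ : A → ℂ) x =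
        ((m ψ₀ * g x : ℤ) : ℂ) := by
    intro ψ₀
    set l := homOf ψ₀ with hl
    set L : A → ℂˣ := ⇑l with hL
    have hlc : L ^ Nat.card A = 1 := funext fun x => by
      show l x ^ Nat.card A = 1
      rw [← map_pow, pow_card_eq_one', map_one]
    have hdvd : orderOf L ∣ Nat.card A := orderOf_dvd_of_pow_eq_one hlc
    rw [ha₀] at hdvd
    obtain ⟨j, -, hj⟩ := (Nat.dvd_prime_pow Nat.prime_two).1 hdvd
    have hfin : IsOfFinOrder L :=
      isOfFinOrder_iff_pow_eq_one.2 ⟨Nat.card A, Nat.card_pos, hlc⟩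
    rcases j with _ | j
    · have h0 : L = 1 := orderOf_eq_one_iff.1 (by rw [hj, pow_zero])
      have h1 : l = 1 := MonoidHom.ext fun x => congrFun h0 x
      refine ⟨fun _ => 1, ⟨1, one_mul (1 : A →* ℂˣ), fun x => ⟨fun _ => by simp, fun h => absurd rfl h⟩⟩,
        fun x => ?_⟩
      rw [Finset.sum_eq_single ψ₀]
      · rw [homOf_apply, ← hl, h1]; simp
      · intro ψ hψ hne
        refine absurd ?_ hne
        have h2 := (Finset.mem_filter.1 hψ).2
        have h3 : Subgroup.zpowers (⇑(homOf ψ) : A → ℂˣ) = Subgroup.zpowers L := h2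
        rw [h0, Subgroup.zpowers_one_eq_bot] at h3
        have h4 := Subgroup.zpowers_eq_bot.1 h3
        have h5 : homOf ψ = homOf ψ₀ := DFunLike.coe_injective (h4.trans h0.symm)
        rw [← irrOf_homOf ψ, ← irrOf_homOf ψ₀, h5]
      · simp
    -- the characters with the same kernel
    have hbig : ∀ i, i < 2 ^ j → 2 * i + 1 < orderOf L := fun i hi => by
      rw [hj, pow_succ]; omega
    have hcop : ∀ i : ℕ, (2 * i + 1).Coprime (Nat.card A) := fun i => by
      rw [ha₀]
      exact ((Nat.prime_two.coprime_iff_not_dvd).2 (by omega)).symm.pow_right _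
    have hfib : Finset.univ.filter (fun ψ => K ψ = K ψ₀) =
        (Finset.range (2 ^ j)).image fun i => irrOf ((powMonoidHom (2 * i + 1)).comp l) := by
      ext ψ
      simp only [Finset.mem_filter, Finset.mem_univ, true_and, Finset.mem_image, Finset.mem_range,
        K, ← hl, ← hL]
      constructor
      · intro h
        obtain ⟨i, hi⟩ := hfin.mem_powers_iff_mem_zpowers.2 (h ▸ Subgroup.mem_zpowers (⇑(homOf ψ)))
        have hord : orderOf (⇑(homOf ψ) : A → ℂˣ) = orderOf L := by
          rw [← Nat.card_zpowers, ← Nat.card_zpowers, h]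
        have hi' : L ^ (i % orderOf L) = ⇑(homOf ψ) := (pow_mod_orderOf L i).trans hi
        rw [← hi', hfin.orderOf_pow, hj] at hord
        have hg : Nat.gcd (2 ^ (j + 1)) (i % orderOf L) = 1 := by
          rw [← hj] at hord ⊢
          exact (Nat.div_eq_self.1 hord).resolve_left hfin.orderOf_pos.ne'
        have hodd : ¬ 2 ∣ i % orderOf L := fun hd => by
          have := Nat.dvd_gcd (dvd_pow_self 2 (Nat.succ_ne_zero j)) hd
          rw [hg] at this
          omega
        refine ⟨i % orderOf L / 2, ?_, ?_⟩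
        · have := Nat.mod_lt i hfin.orderOf_pos
          rw [hj, pow_succ] at this
          rw [hj, pow_succ]
          omega
        · rw [show 2 * (i % orderOf L / 2) + 1 = i % orderOf L by omega]
          refine (congrArg irrOf (MonoidHom.ext fun x => ?_)).trans (irrOf_homOf ψ)
          exact congrFun hi' x
      · rintro ⟨i, -, rfl⟩
        rw [homOf_irrOf]
        show Subgroup.zpowers (L ^ (2 * i + 1)) = Subgroup.zpowers L
        refine le_antisymm (Subgroup.zpowers_le.2 (pow_mem (Subgroup.mem_zpowers L) _))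
          (Subgroup.zpowers_le.2 ?_)
        obtain ⟨t, ht⟩ := exists_pow_eq_self_of_coprime (x := L) (n := 2 * i + 1) (by
          rw [hj]; exact ((Nat.prime_two.coprime_iff_not_dvd).2 (by omega)).symm.pow_right _)
        exact ⟨(t : ℤ), by simpa using ht⟩
    refine ⟨fun x => (2 : ℤ) ^ j * if l x = 1 then 1 else if (l x : ℂ) = -1 then -1 else 0, ?_,
      fun x => ?_⟩
    · rcases j with _ | _ | j
      · have hκ : l * l = 1 := MonoidHom.ext fun x => by
          have := congrFun (show L ^ 2 = 1 by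
            rw [show 2 = orderOf L by rw [hj]; rfl, pow_orderOf_eq_one]) x
          show l x * l x = 1
          rw [← pow_two]; exact this
        refine ⟨l, hκ, fun x => ⟨fun h => ?_, fun h => ?_⟩⟩
        · simp [h]
        · simp [h, eq_neg_one_of_sq hκ h]
      · have hκ : (powMonoidHom 2).comp l * (powMonoidHom 2).comp l = 1 := MonoidHom.ext fun x => by
          have := congrFun (show L ^ 4 = 1 by
            rw [show 4 = orderOf L by rw [hj]; rfl, pow_orderOf_eq_one]) x
          show l x ^ 2 * l x ^ 2 = 1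
          rw [← pow_add]; exact this
        refine ⟨(powMonoidHom 2).comp l, hκ, fun x => ⟨fun h => ?_, fun h => ?_⟩⟩
        · have h' : (l x : ℂ) * (l x : ℂ) = 1 := by
            have := congrArg Units.val h
            simpa [pow_two] using this
          by_cases hx : l x = 1
          · simp [hx]
          · simp [hx, (mul_self_eq_one_iff.1 h').resolve_left fun h'' => hx (Units.ext h'')]
        · have hx : l x ≠ 1 := fun hx => h (by simp [hx])
          have hx' : (l x : ℂ) ≠ -1 := fun hx' => h (Units.ext (by simp [hx']))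
          simp [hx, hx']
      · refine ⟨1, one_mul (1 : A →* ℂˣ), fun x => ⟨fun _ => ?_, fun h => absurd rfl h⟩⟩
        exact dvd_sub (dvd_mul_of_dvd_left ⟨2 ^ j, by ring⟩ _)
          (dvd_mul_of_dvd_left ⟨2 ^ j, by ring⟩ _)
    rw [hfib, Finset.sum_image fun i hi i' hi' h => by
      have h' : L ^ (2 * i + 1) = L ^ (2 * i' + 1) := by
        have h'' := congrArg (fun ψ => ⇑(homOf ψ)) h
        simp only [homOf_irrOf] at h''
        exact h''
      have := pow_injOn_Iio_orderOf (x := L) (hbig i (Finset.mem_range.1 hi))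
        (hbig i' (Finset.mem_range.1 hi')) h'
      omega]
    set z := (l x : ℂ) with hz
    have hterm : ∀ i, (m (irrOf ((powMonoidHom (2 * i + 1)).comp l)) : ℂ) *
        (irrOf ((powMonoidHom (2 * i + 1)).comp l) : A → ℂ) x =
          ((m ψ₀ : ℂ) * z) * (z * z) ^ i := fun i => by
      rw [hconst l _ (hcop i), hl, irrOf_homOf, ← hl, irrOf_apply,
        show ((((powMonoidHom (2 * i + 1)).comp l) x : ℂˣ) : ℂ) = z ^ (2 * i + 1) by simp [hz]]
      ring
    rw [Finset.sum_congr rfl fun i _ => hterm i, ← Finset.mul_sum]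
    have hzpow : (z * z) ^ 2 ^ j = 1 := by
      have h := congrArg Units.val (congrFun (pow_orderOf_eq_one L) x)
      rw [← pow_two, ← pow_mul, hz, show 2 * 2 ^ j = orderOf L by rw [hj]; ring]
      simpa using h
    dsimp only
    by_cases h2 : z * z = 1
    · rw [h2]
      rcases mul_self_eq_one_iff.1 h2 with h | h
      · rw [if_pos (Units.ext (by rw [← hz, h]; rfl)), h]; simp
      · rw [if_neg (fun h' => by rw [hz, h'] at h; norm_num at h), if_pos h, h]; simp
    · rw [geom_sum_eq h2, hzpow, if_neg (fun h' => h2 (by simp [hz, h'])),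
        if_neg (fun h' => h2 (by simp [hz, h']))]
      simp
  choose g hg hgs using hclass
  have hrep : ∀ C ∈ Finset.univ.image K, ∃ ψ, K ψ = C := fun C hC => by
    obtain ⟨ψ, -, rfl⟩ := Finset.mem_image.1 hC
    exact ⟨ψ, rfl⟩
  choose ρ hρ using hrep
  have hZ' : Z = ∑ C ∈ (Finset.univ.image K).attach, m (ρ C.1 C.2) • g (ρ C.1 C.2) := by
    funext x
    refine Int.cast_injective (α := ℂ) ?_
    refine (congrFun hZe x).trans ?_
    simp only [Finset.sum_apply, Pi.smul_apply, smul_eq_mul, Int.cast_sum]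
    rw [← Finset.sum_fiberwise_of_maps_to (t := Finset.univ.image K) (g := K)
      (fun ψ _ => Finset.mem_image_of_mem _ (Finset.mem_univ ψ)), ← Finset.sum_attach]
    refine Finset.sum_congr rfl fun C _ => ?_
    rw [← hgs, hρ C.1 C.2]
  rw [hZ']
  exact Finset.sum_induction _ LinFour (fun _ _ => LinFour.add) LinFour.zero
    fun C _ => LinFour.smul _ (hg _)

/-- The modulus of the sign normalization. -/
def modP (p : ℕ) : ℤ := if p = 2 then 4 else p

open scoped Classical in
/-- The normal form. -/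
theorem exists_normal_form {M : Ideal Cfsg.AlgInt} (hM : Cfsg.IsPModular p M)
    (hA : IsPGroup p A) {F : A → ℂ} (hF : Cfsg.IsCharacter A F) (r : A → ℤ) (u : A → ℂ)
    (hFu : ∀ x, F x = (r x : ℂ) * u x) (hu : ∀ x, IsIntegral ℤ (u x))
    (hu1 : ∀ x, u x * conj (u x) = 1) (hr : ∀ x, ¬ (p : ℤ) ∣ r x) :
    ∃ Z : A → ℤ, Cfsg.IsGeneralizedCharacter A (fun x => (Z x : ℂ)) ∧
      (∀ x, Z x = r x ∨ Z x = -r x) ∧ ∀ x, modP p ∣ Z x - Z 1 := by
  have hr0 : ∀ x, (r x : ℂ) ≠ 0 := fun x => Int.cast_ne_zero.2 fun h => hr x (h ▸ dvd_zero _)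
  have hFg := IsGen.of_char hF
  have hFc := IsGen.of_char (IsChar.conj hF)
  have hrp : ∀ x, ¬ (p : ℤ) ∣ r x * r x := fun x h =>
    (hr x) (((Nat.prime_iff_prime_int.1 hp.out).dvd_mul.1 h).elim id id)
  have hθ : ∀ x, F x * F x / (F x * conj (F x)) = u x * u x := fun x => by
    rw [hFu, map_mul, map_intCast]
    have h0 := hr0 x
    have h1 : u x ≠ 0 := fun h => by simpa [h] using hu1 x
    have h2 : conj (u x) ≠ 0 := fun h => by simpa [h] using hu1 x
    field_simp
    linear_combination -hu1 x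
  have hgen := isGen_div hA (IsGen.mul hFg hFg) (IsGen.mul hFg hFc) (z := fun x => r x * r x)
    (fun x => by
      rw [Pi.mul_apply, hFu, map_mul, map_intCast]
      push_cast
      linear_combination ((r x : ℂ) * r x) * hu1 x) hrp
    (fun x => by rw [Pi.mul_apply, Pi.mul_apply, hθ]; exact (hu x).mul (hu x))
  replace hgen : Cfsg.IsGeneralizedCharacter A (fun x => u x * u x) := by
    convert hgen using 1
    exact funext fun x => (hθ x).symm
  obtain ⟨d, hd⟩ := CharBasic.IsChar.exists_degree hF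
  have hu11 : u 1 * u 1 = 1 := by
    have h1 : conj (F 1) = F 1 := by rw [hd, Complex.conj_natCast]
    rw [hFu, map_mul, map_intCast] at h1
    have h2 := mul_left_cancel₀ (hr0 1) h1
    conv_lhs => arg 2; rw [← h2]
    exact hu1 1
  obtain ⟨ν, hν⟩ := exists_hom_of_norm hgen hu11 fun x => by
    rw [map_mul]; linear_combination (u x * conj (u x) + 1) * hu1 x
  have hsymm : ∀ x, F x = (ν x : ℂ) * conj (F x) := fun x => by
    rw [← hν, hFu, map_mul, map_intCast]
    linear_combination -((r x : ℂ) * u x) * hu1 x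
  obtain ⟨f, hf, hfp⟩ : ∃ f : ℤ, F 1 = f ∧ ¬ (p : ℤ) ∣ f := by
    rcases mul_self_eq_one_iff.1 hu11 with h | h
    · exact ⟨r 1, by rw [hFu, h, mul_one], hr 1⟩
    · exact ⟨-r 1, by rw [hFu, h]; push_cast; ring, fun h' => hr 1 (dvd_neg.1 h')⟩
  obtain ⟨μ, hμ⟩ := exists_sq_hom hA hF hsymm hf hfp
  set F' := fun x => F x * ((μ⁻¹ : A →* ℂˣ) x : ℂ) with hF'
  have hF'c : Cfsg.IsCharacter A F' := IsChar.mul hF (isCharacter_hom μ⁻¹)
  have hcase : ∀ x, F' x = (r x : ℂ) ∨ F' x = ((-r x : ℤ) : ℂ) := fun x => by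
    have h : (u x * ((μ⁻¹ : A →* ℂˣ) x : ℂ)) * (u x * ((μ⁻¹ : A →* ℂˣ) x : ℂ)) = 1 := by
      rw [mul_mul_mul_comm, hν, ← hμ, ← Units.val_mul, ← Units.val_mul, MonoidHom.mul_apply,
        MonoidHom.inv_apply]
      simp
    rcases mul_self_eq_one_iff.1 h with h | h
    · left; rw [hF']; show F x * _ = _; rw [hFu, mul_assoc, h, mul_one]
    · right; rw [hF']; show F x * _ = _; rw [hFu, mul_assoc, h]; push_cast; ring
  have hint : ∀ x, ∃ z : ℤ, F' x = z ∧ (z = r x ∨ z = -r x) := fun x => by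
    rcases hcase x with h | h
    · exact ⟨r x, h, Or.inl rfl⟩
    · exact ⟨-r x, h, Or.inr rfl⟩
  choose Z hZ hZr using hint
  have hZg : Cfsg.IsGeneralizedCharacter A (fun x => (Z x : ℂ)) := by
    have := IsGen.of_char hF'c
    rwa [show F' = fun x => (Z x : ℂ) from funext hZ] at this
  have hZp : ∀ x, (p : ℤ) ∣ Z x - Z 1 := fun x => by
    have h := H85.memLocalIdeal_apply_sub_one hM hF'c (IsPGroup.iff_orderOf.1 hA x)
    rw [hZ, hZ, ← Int.cast_sub] at h
    exact (BlockBasic.memLocalIdeal_intCast_iff hM _).1 h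
  rcases eq_or_ne p 2 with h2 | h2
  · subst h2
    obtain ⟨κ, hκ, hκ4⟩ := linFour_of_gen hA hZg
    refine ⟨fun x => if κ x = 1 then Z x else -Z x, ?_, fun x => ?_, fun x => ?_⟩
    · have := IsGen.mul hZg (IsGen.of_char (isCharacter_hom κ))
      convert this using 1
      funext x
      dsimp only
      split_ifs with h
      · simp [h]
      · rw [Pi.mul_apply, eq_neg_one_of_sq hκ h]; push_cast; ring
    · dsimp only
      split_ifs <;> rcases hZr x with h' | h' <;> simp [h']
    · have hodd : ¬ (2 : ℤ) ∣ Z 1 := fun h => hr 1 (by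
        rcases hZr 1 with h' | h' <;> rw [h'] at h
        · exact_mod_cast h
        · exact_mod_cast dvd_neg.1 h)
      simp only [modP, if_pos, map_one]
      split_ifs with h
      · exact (hκ4 x).1 h
      · have := (hκ4 x).2 h
        omega
  · exact ⟨Z, hZg, hZr, fun x => by rw [modP, if_neg h2]; exact hZp x⟩

end Comm

end Cfsg.Agent.H80.PuigUsami
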