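import Mathlib.Algebra.BigOperators.Ring.Finset
import Mathlib.Algebra.Order.BigOperators.Group.Finset
import Mathlib.Algebra.Order.Ring.Abs
import Mathlib.Data.Fintype.BigOperators
import Mathlib.Tactic.Linarith
import Mathlib.Tactic.IntervalCases
import Mathlib.Tactic.Ring

/-!
Integer vectors with Gram matrix `1 + e J`: the number of used coordinates is at most `e + n`, and
is equal to it for `e ≤ 3` apart from configurations with `n ∈ {3, 4}` inside `e + 2` coordinates.
-/

namespace Cfsg.Agent.H80.PuigUsami

variable {X ι : Type*} [Fintype X] [Fintype ι] [DecidableEq ι] {e : ℕ} {a : X → ι → ℤ}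

/-- A vector which is not constant has many differences. -/
theorem two_card_le_sum_sq (v : ι → ℤ) (h : ∃ i j, v i ≠ v j) :
    2 * ((Fintype.card ι : ℤ) - 1) ≤ ∑ i, ∑ j, (v i - v j) ^ 2 := by
  obtain ⟨i, j, hij⟩ := h
  have hne : i ≠ j := fun h => hij (congrArg v h)
  have h1 : ∀ l, 1 ≤ (v i - v l) ^ 2 + (v j - v l) ^ 2 := fun l => by
    by_cases hl : v i = v l
    · have := sq_pos_of_ne_zero (show v j - v l ≠ 0 by rw [sub_ne_zero, ← hl]; exact hij.symm)
      nlinarith
    · have := sq_pos_of_ne_zero (sub_ne_zero.2 hl)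
      nlinarith [sq_nonneg (v j - v l)]
  have h2 : 1 ≤ (v i - v j) ^ 2 := by
    have := sq_pos_of_ne_zero (sub_ne_zero.2 hij)
    omega
  set S := (Finset.univ.erase i).erase j with hS
  have hcard : (S.card : ℤ) = (Fintype.card ι : ℤ) - 2 := by
    have e1 := Finset.card_erase_add_one (Finset.mem_erase.2 ⟨hne.symm, Finset.mem_univ j⟩)
    have e2 := Finset.card_erase_add_one (Finset.mem_univ i)
    rw [Finset.card_univ] at e2
    rw [hS]
    omega
  have split : ∀ f : ι → ℤ, ∑ l, f l = f i + (f j + ∑ l ∈ S, f l) := fun f => by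
    rw [hS, Finset.add_sum_erase _ f (Finset.mem_erase.2 ⟨hne.symm, Finset.mem_univ j⟩),
      Finset.add_sum_erase _ f (Finset.mem_univ i)]
  have hA : (S.card : ℤ) ≤ (∑ l ∈ S, (v i - v l) ^ 2) + ∑ l ∈ S, (v j - v l) ^ 2 := by
    rw [← Finset.sum_add_distrib]
    simpa using Finset.card_nsmul_le_sum S _ 1 fun l _ => h1 l
  have hB : (S.card : ℤ) ≤ ∑ l ∈ S, ∑ m, (v l - v m) ^ 2 := by
    have := Finset.card_nsmul_le_sum S (fun l => ∑ m, (v l - v m) ^ 2) 1 fun l _ => by
      rw [split fun m => (v l - v m) ^ 2]
      have := Finset.sum_nonneg fun m (_ : m ∈ S) => sq_nonneg (v l - v m)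
      have := h1 l
      nlinarith
    simpa using this
  rw [split, split (fun m => (v i - v m) ^ 2), split (fun m => (v j - v m) ^ 2)]
  nlinarith [sq_nonneg (v i - v i), sq_nonneg (v j - v j)]

/-- The bound on the number of used coordinates. -/
theorem card_le (hg : ∀ i j, ∑ x, a x i * a x j = (if i = j then 1 else 0) + e)
    (hne : ∀ x, ∃ i, a x i ≠ 0) [Nonempty ι] : Fintype.card X ≤ e + Fintype.card ι := by
  classical
  set n : ℤ := (Fintype.card ι : ℤ) with hn
  have hn1 : 1 ≤ n := by rw [hn]; exact_mod_cast Fintype.card_pos (α := ι)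
  set N := Finset.univ.filter (fun x => ∃ i j, a x i ≠ a x j) with hN
  have hpair : ∀ i j, ∑ x, (a x i - a x j) ^ 2 = if i = j then 0 else 2 := by
    intro i j
    have h : ∀ x, (a x i - a x j) ^ 2 = a x i * a x i - 2 * (a x i * a x j) + a x j * a x j :=
      fun x => by ring
    rw [Finset.sum_congr rfl fun x _ => h x, Finset.sum_add_distrib, Finset.sum_sub_distrib,
      ← Finset.mul_sum, hg, hg, hg]
    simp only [if_true]
    split_ifs <;> ring
  have htot : ∑ x, ∑ i, ∑ j, (a x i - a x j) ^ 2 = 2 * n * (n - 1) := by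
    rw [Finset.sum_comm, Finset.sum_congr rfl fun i _ => Finset.sum_comm]
    simp only [hpair]
    have : ∀ i : ι, ∑ j, (if i = j then (0 : ℤ) else 2) = 2 * n - 2 := fun i => by
      rw [Finset.sum_congr rfl (g := fun j => (2 : ℤ) - if i = j then 2 else 0)
        fun j _ => by split_ifs <;> simp, Finset.sum_sub_distrib, Finset.sum_ite_eq]
      simp [hn]; ring
    rw [Finset.sum_congr rfl fun i _ => this i]
    simp [← hn]; ring
  have hNle : (N.card : ℤ) * (2 * (n - 1)) ≤ 2 * n * (n - 1) := by
    rw [← htot, ← nsmul_eq_mul]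
    refine (Finset.card_nsmul_le_sum N _ _ fun x hx =>
      two_card_le_sum_sq (a x) (Finset.mem_filter.1 hx).2).trans ?_
    exact Finset.sum_le_univ_sum_of_nonneg fun x => Finset.sum_nonneg fun _ _ =>
      Finset.sum_nonneg fun _ _ => sq_nonneg _
  have htr : ∀ x, (if x ∈ N then 1 else n) ≤ ∑ i, a x i * a x i := by
    intro x
    obtain ⟨i, hi⟩ := hne x
    have hi1 : 1 ≤ a x i * a x i := by
      have := sq_pos_of_ne_zero hi
      nlinarith
    split_ifs with hx
    · exact hi1.trans (Finset.single_le_sum (f := fun i => a x i * a x i)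
        (fun j _ => mul_self_nonneg _) (Finset.mem_univ i))
    · have hc : ∀ j, a x j = a x i := fun j => by
        by_contra h
        exact hx (Finset.mem_filter.2 ⟨Finset.mem_univ x, j, i, h⟩)
      rw [Finset.sum_congr rfl fun j _ => by rw [hc j], Finset.sum_const, nsmul_eq_mul,
        Finset.card_univ, ← hn]
      nlinarith
  have htrace : (Fintype.card X : ℤ) * n - (N.card : ℤ) * (n - 1) ≤ n * (e + 1) := by
    have h := Finset.sum_le_sum fun x (_ : x ∈ Finset.univ) => htr x
    rw [Finset.sum_comm, Finset.sum_congr rfl fun i _ => hg i i] at h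
    rw [Finset.sum_congr rfl (g := fun x => n - if x ∈ N then n - 1 else 0)
      fun x _ => by split_ifs <;> ring, Finset.sum_sub_distrib, Finset.sum_ite_mem] at h
    simp [← hn] at h
    linarith
  have h3 : (Fintype.card X : ℤ) * n ≤ n * (e + n) := by nlinarith
  have h4 : (Fintype.card X : ℤ) ≤ e + n := le_of_mul_le_mul_left (by linarith) (by linarith : 0 < n)
  rw [hn] at h4
  exact_mod_cast h4

/-- A family of sets of size `e + 1` with pairwise intersections of size `e`. -/
theorem sunflower_or_small [DecidableEq X] {A : ι → Finset X} (hcard : ∀ i, (A i).card = e + 1)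
    (hinter : ∀ i j, i ≠ j → (A i ∩ A j).card = e) (hcov : ∀ x, ∃ i, x ∈ A i)
    (h2 : 2 ≤ Fintype.card ι) :
    Fintype.card X = e + Fintype.card ι ∨ Fintype.card X = e + 2 := by
  classical
  obtain ⟨i, j, hij⟩ := Fintype.exists_pair_of_one_lt_card h2
  set C := A i ∩ A j with hC
  have hCc : C.card = e := hinter i j hij
  have hU : (A i ∪ A j).card = e + 2 := by
    have := Finset.card_union_add_card_inter (A i) (A j)
    rw [hcard, hcard, ← hC, hCc] at this
    omega
  by_cases hall : ∀ l, C ⊆ A l
  · left
    have hx : ∀ l, ∃ x, A l \ C = {x} := fun l => by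
      refine Finset.card_eq_one.1 ?_
      rw [Finset.card_sdiff_of_subset (hall l), hcard, hCc]
      omega
    choose x hx using hx
    have hxmem : ∀ l, x l ∈ A l \ C := fun l => by rw [hx l]; exact Finset.mem_singleton_self _
    have hAl : ∀ l, A l = C ∪ {x l} := fun l => by
      rw [← hx l, Finset.union_sdiff_of_subset (hall l)]
    have hinj : Function.Injective x := fun l m h => by
      by_contra hne
      have := hinter l m hne
      rw [hAl l, hAl m, h, Finset.inter_self, ← h, ← hAl l, hcard] at this
      omega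
    have hdisj : Disjoint C (Finset.univ.image x) := Finset.disjoint_left.2 fun y hy hy' => by
      obtain ⟨l, -, rfl⟩ := Finset.mem_image.1 hy'
      exact (Finset.mem_sdiff.1 (hxmem l)).2 hy
    have hun : C ∪ Finset.univ.image x = Finset.univ := by
      refine Finset.eq_univ_iff_forall.2 fun y => ?_
      obtain ⟨l, hl⟩ := hcov y
      rw [hAl l] at hl
      simp only [Finset.mem_union, Finset.mem_singleton] at hl
      rcases hl with hl | hl
      · exact Finset.mem_union_left _ hl
      · exact Finset.mem_union_right _ (Finset.mem_image.2 ⟨l, Finset.mem_univ l, hl.symm⟩)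
    rw [← Finset.card_univ (α := X), ← hun, Finset.card_union_of_disjoint hdisj,
      Finset.card_image_of_injective _ hinj, hCc, Finset.card_univ]
  · right
    push Not at hall
    obtain ⟨m, hm⟩ := hall
    obtain ⟨c, hcC, hcm⟩ := Finset.not_subset.1 hm
    have hmi : m ≠ i := fun h => hcm (h ▸ (Finset.mem_inter.1 hcC).1)
    have hmj : m ≠ j := fun h => hcm (h ▸ (Finset.mem_inter.1 hcC).2)
    have key : ∀ l, c ∈ A l → c ∉ A m → l ≠ m → (A l).erase c = A l ∩ A m := fun l hl hlm hne => by
      refine (Finset.eq_of_subset_of_card_le (fun y hy => ?_) ?_).symm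
      · obtain ⟨hy1, hy2⟩ := Finset.mem_inter.1 hy
        exact Finset.mem_erase.2 ⟨fun h => hlm (h ▸ hy2), hy1⟩
      · rw [Finset.card_erase_of_mem hl, hcard, hinter l m hne]
        omega
    have hi' : (A i).erase c ⊆ A m := by
      rw [key i (Finset.mem_inter.1 hcC).1 hcm hmi.symm]; exact Finset.inter_subset_right
    have hj' : (A j).erase c ⊆ A m := by
      rw [key j (Finset.mem_inter.1 hcC).2 hcm hmj.symm]; exact Finset.inter_subset_right
    have hmU : A m = (A i ∪ A j).erase c := by
      refine (Finset.eq_of_subset_of_card_le ?_ ?_).symm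
      · rw [Finset.erase_union_distrib]
        exact Finset.union_subset hi' hj'
      · rw [Finset.card_erase_of_mem (Finset.mem_union_left _ (Finset.mem_inter.1 hcC).1), hU, hcard]
        omega
    have hsub : ∀ l, A l ⊆ A i ∪ A j := by
      intro l y hy
      by_contra hyU
      have hli : l ≠ i := fun h => hyU (Finset.mem_union_left _ (h ▸ hy))
      have hlj : l ≠ j := fun h => hyU (Finset.mem_union_right _ (h ▸ hy))
      have hlm : l ≠ m := fun h => by
        rw [h, hmU] at hy
        exact hyU (Finset.mem_of_mem_erase hy)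
      have aux : ∀ s, l ≠ s → y ∉ A s → (A l).erase y = A l ∩ A s := fun s hls hys => by
        refine (Finset.eq_of_subset_of_card_le (fun z hz => ?_) ?_).symm
        · obtain ⟨hz1, hz2⟩ := Finset.mem_inter.1 hz
          exact Finset.mem_erase.2 ⟨fun h => hys (h ▸ hz2), hz1⟩
        · rw [Finset.card_erase_of_mem hy, hcard, hinter l s hls]
          omega
      have e1 := aux i hli fun h => hyU (Finset.mem_union_left _ h)
      have e2 := aux j hlj fun h => hyU (Finset.mem_union_right _ h)
      have e3 := aux m hlm fun h => by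
        rw [hmU] at h; exact hyU (Finset.mem_of_mem_erase h)
      have h1 : (A l).erase y ⊆ C := fun z hz =>
        Finset.mem_inter.2 ⟨Finset.inter_subset_right (e1 ▸ hz),
          Finset.inter_subset_right (e2 ▸ hz)⟩
      have h2' : (A l).erase y = C := Finset.eq_of_subset_of_card_le h1 (by
        rw [Finset.card_erase_of_mem hy, hcard, hCc]; omega)
      exact hcm (Finset.inter_subset_right (e3 ▸ h2' ▸ hcC))
    have hun : A i ∪ A j = Finset.univ := Finset.eq_univ_iff_forall.2 fun y => by
      obtain ⟨l, hl⟩ := hcov y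
      exact hsub l hl
    rw [← Finset.card_univ (α := X), ← hun, hU]

/-- The equality for `e ≤ 3`, up to small configurations. -/
theorem card_eq (hg : ∀ i j, ∑ x, a x i * a x j = (if i = j then 1 else 0) + e)
    (hne : ∀ x, ∃ i, a x i ≠ 0) [Nonempty ι] (he : e ≤ 3) (he1 : 1 ≤ e)
    (hk : Fintype.card ι + 1 ≤ Fintype.card X) {d : X → ℤ} (hd : ∀ x, d x ≠ 0)
    (hrel : ∀ i, ∑ x, d x * a x i = 0) :
    Fintype.card X = e + Fintype.card ι ∨
      (2 ≤ e ∧ 3 ≤ Fintype.card ι ∧ Fintype.card ι ≤ e + 1) := by
  classical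
  have hle := card_le hg hne
  rcases Nat.lt_or_ge e 2 with h | he2
  · left; omega
  set n := Fintype.card ι with hn
  have hdiag : ∀ i, ∑ x, a x i * a x i = (e : ℤ) + 1 := fun i => by rw [hg, if_pos rfl]; ring
  have hbound : ∀ x i, a x i * a x i ≤ (e : ℤ) + 1 := fun x i => by
    rw [← hdiag i]
    exact Finset.single_le_sum (f := fun y => a y i * a y i) (fun y _ => mul_self_nonneg _)
      (Finset.mem_univ x)
  have hsmall : ∀ x i, -2 ≤ a x i ∧ a x i ≤ 2 := fun x i => by
    have h1 := hbound x i
    have h2 : (e : ℤ) ≤ 3 := by exact_mod_cast he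
    constructor <;> nlinarith
  have hunit : ∀ x i, a x i = 0 ∨ a x i = 1 ∨ a x i = -1 := by
    intro x i
    have h1 := hsmall x i
    by_contra hc
    have h2 : a x i = 2 ∨ a x i = -2 := by omega
    have h3 : a x i * a x i = 4 := by rcases h2 with h | h <;> simp [h]
    have he3 : e = 3 := by
      have := hbound x i
      omega
    have hzero : ∀ y, y ≠ x → a y i = 0 := fun y hy => by
      have h4 : ∑ z ∈ ({x, y} : Finset X), a z i * a z i ≤ ∑ z, a z i * a z i :=
        Finset.sum_le_univ_sum_of_nonneg fun z => mul_self_nonneg _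
      rw [Finset.sum_pair hy.symm, hdiag, h3, he3] at h4
      exact mul_self_eq_zero.1 (le_antisymm (by push_cast at h4; linarith) (mul_self_nonneg _))
    rcases Nat.lt_or_ge n 2 with hn1 | hn2
    · have hone : ∀ j : ι, j = i := fun j => Fintype.card_le_one_iff.1 (by omega) j i
      have : Fintype.card X ≤ 1 := Fintype.card_le_one_iff.2 fun y z => by
        by_contra hyz
        obtain ⟨j, hj⟩ := hne y
        obtain ⟨l, hl⟩ := hne z
        rw [hone j] at hj
        rw [hone l] at hl
        have hy : y = x := by_contra fun h => hj (hzero y h)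
        have hz : z = x := by_contra fun h => hl (hzero z h)
        exact hyz (hy.trans hz.symm)
      have := Fintype.card_pos (α := ι)
      omega
    · obtain ⟨j, hj⟩ := Fintype.exists_ne_of_one_lt_card (α := ι) hn2 i
      have h5 := hg i j
      rw [if_neg hj.symm, Finset.sum_eq_single x (fun y _ hy => by rw [hzero y hy, zero_mul])
        (fun h => absurd (Finset.mem_univ x) h), he3] at h5
      rcases h2 with h | h <;> rw [h] at h5 <;> omega
  -- supports
  set A : ι → Finset X := fun i => Finset.univ.filter fun x => a x i ≠ 0 with hA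
  have hsq : ∀ x i, a x i * a x i = if x ∈ A i then 1 else 0 := fun x i => by
    simp only [hA, Finset.mem_filter, Finset.mem_univ, true_and]
    rcases hunit x i with h | h | h <;> simp [h]
  have hcard : ∀ i, (A i).card = e + 1 := fun i => by
    have h := hdiag i
    rw [Finset.sum_congr rfl fun x _ => hsq x i, Finset.sum_boole] at h
    simp at h
    exact_mod_cast h
  have hcov : ∀ x, ∃ i, x ∈ A i := fun x => by
    obtain ⟨i, hi⟩ := hne x
    exact ⟨i, Finset.mem_filter.2 ⟨Finset.mem_univ x, hi⟩⟩
  rcases Nat.lt_or_ge n 2 with hn1 | hn2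
  · left
    obtain ⟨i⟩ := ‹Nonempty ι›
    have hone : ∀ j : ι, j = i := fun j => Fintype.card_le_one_iff.1 (by omega) j i
    have hun : A i = Finset.univ := Finset.eq_univ_iff_forall.2 fun x => by
      obtain ⟨j, hj⟩ := hcov x
      rwa [hone j] at hj
    rw [← Finset.card_univ (α := X), ← hun, hcard]
    have : 0 < n := Fintype.card_pos
    omega
  -- pairwise agreement
  have hagree : ∀ i j, i ≠ j → (A i ∩ A j).card = e ∧ ∀ x ∈ A i ∩ A j, a x i = a x j := by
    intro i j hij
    have h := hg i j
    rw [if_neg hij, zero_add] at h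
    set S := A i ∩ A j with hS
    set D := S.filter (fun x => a x i ≠ a x j) with hD
    have hval : ∀ x, a x i * a x j = (if x ∈ S then (1 : ℤ) else 0) - 2 * if x ∈ D then 1 else 0 := by
      intro x
      simp only [hD, hS, hA, Finset.mem_filter, Finset.mem_inter, Finset.mem_univ, true_and]
      rcases hunit x i with h1 | h1 | h1 <;> rcases hunit x j with h2 | h2 | h2 <;> simp [h1, h2]
    rw [Finset.sum_congr rfl fun x _ => hval x, Finset.sum_sub_distrib, ← Finset.mul_sum,
      Finset.sum_boole, Finset.sum_boole] at h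
    simp at h
    have h1 : S.card ≤ e + 1 := (Finset.card_le_card Finset.inter_subset_left).trans (hcard i).le
    have hD0 : D.card = 0 := by omega
    refine ⟨by omega, fun x hx => ?_⟩
    by_contra hne'
    exact Finset.notMem_empty x (Finset.card_eq_zero.1 hD0 ▸ Finset.mem_filter.2 ⟨hx, hne'⟩)
  rcases sunflower_or_small hcard (fun i j h => (hagree i j h).1) hcov hn2 with h | h
  · exact Or.inl h
  rcases Nat.lt_or_ge n 3 with hn3 | hn3
  · left; omega
  refine Or.inr ⟨he2, hn3, ?_⟩
  -- not all subsets of an `e + 2` element set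
  by_contra hbig
  push Not at hbig
  have hmiss : ∀ i, ∃ x, Finset.univ \ A i = {x} := fun i => Finset.card_eq_one.1 (by
    rw [Finset.card_sdiff_of_subset (Finset.subset_univ _), Finset.card_univ, h, hcard]
    omega)
  choose m hm using hmiss
  have hmA : ∀ i x, x ∈ A i ↔ x ≠ m i := fun i x => by
    have h1 := Finset.ext_iff.1 (hm i) x
    simp only [Finset.mem_sdiff, Finset.mem_univ, true_and, Finset.mem_singleton] at h1
    rw [ne_eq, ← h1, not_not]
  have hinj : Function.Injective m := fun i j hij => by
    by_contra hne'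
    have h1 := (hagree i j hne').1
    rw [show A i = A j from Finset.ext fun x => by rw [hmA, hmA, hij], Finset.inter_self, hcard] at h1
    omega
  have hsurj : Function.Surjective m := by
    have hb : Function.Bijective m := (Fintype.bijective_iff_injective_and_card m).2
      ⟨hinj, le_antisymm (Fintype.card_le_of_injective m hinj) (by omega)⟩
    exact hb.2
  -- the common signs
  set σ : X → ℤ := fun x => a x (hcov x).choose with hσdef
  have hσ : ∀ i x, a x i = if x = m i then 0 else σ x := by
    intro i x
    split_ifs with hx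
    · by_contra h1
      exact (hmA i x).1 (Finset.mem_filter.2 ⟨Finset.mem_univ x, h1⟩) hx
    · by_cases h1 : i = (hcov x).choose
      · rw [h1]
      · exact (hagree i _ h1).2 x (Finset.mem_inter.2 ⟨(hmA i x).2 hx, (hcov x).choose_spec⟩)
  set T := ∑ x, d x * σ x with hT
  have hz : ∀ x, d x * σ x = T := by
    intro x
    obtain ⟨i, rfl⟩ := hsurj x
    have h1 := hrel i
    rw [Finset.sum_congr rfl (g := fun y => d y * σ y - if y = m i then d y * σ y else 0)
      fun y _ => by rw [hσ]; split_ifs <;> simp, Finset.sum_sub_distrib, Finset.sum_ite_eq',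
      if_pos (Finset.mem_univ _), sub_eq_zero] at h1
    exact h1.symm
  have hT0 : T = 0 := by
    have h1 : T = (Fintype.card X : ℤ) * T := by
      conv_lhs => rw [hT]
      rw [Finset.sum_congr rfl fun x _ => hz x]
      simp
    have h2 : ((Fintype.card X : ℤ) - 1) * T = 0 := by linarith
    exact (mul_eq_zero.1 h2).resolve_left (by omega)
  obtain ⟨x⟩ : Nonempty X := Fintype.card_pos_iff.1 (by omega)
  have h1 : σ x ≠ 0 := by
    have := (hcov x).choose_spec
    exact (Finset.mem_filter.1 this).2
  exact mul_ne_zero (hd x) h1 ((hz x).trans hT0)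

end Cfsg.Agent.H80.PuigUsami
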