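import Cfsg.Agent.H80.PuigUsami.Local
import Cfsg.Agent.H83.StarCorner

/-!
Primitive idempotents of a block whose characters agree on the regular elements: they are
equivalent and every character of the block takes the value one at their lifts.
-/

set_option linter.style.haveILetI false

open scoped ComplexConjugate

namespace Cfsg.Agent.H80.PuigUsami

open H83 H83.Star H83.SimpleTrace H83.BlockAlgebra MonoidAlgebra BlockBasic CharBasic

universe u

variable {p : ℕ} [hp : Fact p.Prime] {M : Ideal Cfsg.AlgInt} {G : Type u} [Group G] [Fintype G]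
  {f : Set (Cfsg.IrrCharacter G)}

omit hp in
theorem red_blockElem_comm (hM : Cfsg.IsPModular p M) (hf : Cfsg.IsPBlock M f)
    (w : MonoidAlgebra (Residue hM) G) :
    red hM (blockElem f) * w = w * red hM (blockElem f) := by
  rw [← red_lft hM w, ← red_mul hM (isIntElt_blockElem hM hf) (isIntElt_lft hM w),
    isCentralElt_comm (isCentralElt_blockElem f),
    red_mul hM (isIntElt_lft hM w) (isIntElt_blockElem hM hf)]

/-- An idempotent lying in a block has no values outside the block. -/
theorem chiLin_eq_zero_of_not_mem (hM : Cfsg.IsPModular p M) (hf : Cfsg.IsPBlock M f)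
    {z : MonoidAlgebra ℂ G} (hz : z * z = z) (hzi : IsIntElt M z)
    (h : red hM z * red hM (blockElem f) = red hM z) {ψ : Cfsg.IrrCharacter G} (hψ : ψ ∉ f) :
    chiLin (ψ : G → ℂ) z = 0 := by
  classical
  have hc := isCentralElt_comm (isCentralElt_blockElem f) z
  rw [chiLin_eq_of_red hM hz hzi (w := blockElem f * z) ?_ ((isIntElt_blockElem hM hf).mul hM hzi) ?_
    (IsIrr.isClassFunction ψ.2), chiLin_blockElem_mul, if_neg hψ]
  · rw [mul_assoc, ← mul_assoc z, ← hc, mul_assoc (blockElem f) z, hz, ← mul_assoc, blockElem_idem]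
  · rw [red_mul hM (isIntElt_blockElem hM hf) hzi, red_blockElem_comm hM hf, h]

omit hp in
/-- A nonzero idempotent has a nonzero value. -/
theorem exists_value_ne_zero {z : MonoidAlgebra ℂ G} (hz : z * z = z) (h0 : z ≠ 0) :
    ∃ ψ : Cfsg.IrrCharacter G, chiLin (ψ : G → ℂ) z ≠ 0 := by
  by_contra hc
  push Not at hc
  obtain ⟨N, hN, hNe⟩ := Decomp.exists_nat_pos hz h0
  rw [← Decomp.sum_degree_mul_chiLin, Finset.sum_eq_zero (fun ψ _ => by rw [hc ψ, mul_zero])] at hNe
  exact hN.ne' (by exact_mod_cast hNe.symm)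

theorem mem_cen_one (g : G) : g ∈ cen (1 : G) := mem_cen_iff.2 (Commute.one_left g)

/-- Equivalent idempotents have the same values. -/
theorem chiLin_eq_of_equiv (hM : Cfsg.IsPModular p M) {a b : MonoidAlgebra (Residue hM) G}
    (hab : a * b * (a * b) = a * b) (hba : b * a * (b * a) = b * a) {w w' : MonoidAlgebra ℂ G}
    (hw : w * w = w) (hwi : IsIntElt M w) (hwr : red hM w = a * b)
    (hw' : w' * w' = w') (hwi' : IsIntElt M w') (hwr' : red hM w' = b * a)
    {θ : G → ℂ} (hθ : Cfsg.IsClassFunction G θ) : chiLin θ w = chiLin θ w' := by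
  have hs : ∀ {R : Type} [CommRing R] (z : MonoidAlgebra R G), SuppIn (cen (1 : G)) z :=
    fun z g hg => absurd (mem_cen_one g) hg
  have h0 : orderOf (1 : G) = p ^ 0 := by simp
  have h := starVal_equiv hM hθ h0 (hs a) (hs b) hab hba
  rwa [starVal_eq hM hθ h0 (isLiftAt_of_suppIn hM (hs _) hw hwi (hs _) hwr),
    starVal_eq hM hθ h0 (isLiftAt_of_suppIn hM (hs _) hw' hwi' (hs _) hwr'),
    ← one_def, one_mul, one_mul] at h

/-- All characters of the block agree on the regular elements. -/
def RegConst (p : ℕ) (f : Set (Cfsg.IrrCharacter G)) : Prop :=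
  ∀ ψ ∈ f, ∀ ψ' ∈ f, ∀ g : G, ¬ p ∣ orderOf g → (ψ : G → ℂ) g = (ψ' : G → ℂ) g

/-- Idempotents have one value on such a block. -/
theorem chiLin_eq_of_regConst (hM : Cfsg.IsPModular p M) (hreg : RegConst p f)
    {z : MonoidAlgebra ℂ G} (hz : z * z = z) (hzi : IsIntElt M z)
    {ψ ψ' : Cfsg.IrrCharacter G} (hψ : ψ ∈ f) (hψ' : ψ' ∈ f) :
    chiLin (ψ : G → ℂ) z = chiLin (ψ' : G → ℂ) z :=
  Decomp.chiLin_congr_regular hM hz hzi (IsIrr.isClassFunction ψ.2) (IsIrr.isClassFunction ψ'.2)
    (hreg ψ hψ ψ' hψ')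

theorem single_mul_mul_single {n R : Type*} [Fintype n] [DecidableEq n] [CommRing R]
    (i j k l : n) (r s : R) (X : Matrix n n R) :
    Matrix.single i j r * X * Matrix.single k l s = Matrix.single i l (r * X j k * s) := by
  ext a b
  by_cases ha : i = a <;> by_cases hb : l = b <;>
    simp [Matrix.mul_apply, Matrix.single_apply, ha, hb]

section Family

variable {hM : Cfsg.IsPModular p M} {W : Model (Residue hM) G} {ε : Fin W.num → MonoidAlgebra ℂ G}
  (hε : ∀ i, ε i * ε i = ε i ∧ IsIntElt M (ε i) ∧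
    W.map (red hM (ε i)) = Decomp.unitAt hM W i)

include hε in
/-- One simple factor and the value one. -/
theorem family_block (hf : Cfsg.IsPBlock M f) (hreg : RegConst p f) {i : Fin W.num}
    (hi : red hM (ε i) * red hM (blockElem f) = red hM (ε i)) :
    (∀ ψ ∈ f, chiLin (ψ : G → ℂ) (ε i) = 1) ∧
      ∀ j, red hM (ε j) * red hM (blockElem f) = red hM (ε j) → j = i := by
  classical
  haveI : IsAlgClosed (Residue hM) := isAlgClosed_residue hM
  obtain ⟨φ, hφc, hφ, -⟩ := Decomp.exists_dual hε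
  have hgen := fun l => Decomp.dual_isGeneralized hε hφc hφ l
  obtain ⟨ψ₀, hψ₀⟩ := isPBlock_nonempty hM hf
  -- the coefficients of the extended dual function
  have key : ∀ l, ∃ K : ℤ, ∀ j, red hM (ε j) * red hM (blockElem f) = red hM (ε j) →
      (if l = j then (1 : ℂ) else 0) = (K : ℂ) * chiLin (ψ₀ : G → ℂ) (ε j) := by
    intro l
    choose n hn using fun ψ : Cfsg.IrrCharacter G =>
      CharInduce.IsGen.exists_int_coeff (hgen l) (IsIrr.isCharacter ψ.2)
    refine ⟨∑ ψ ∈ Finset.univ.filter (fun ψ : Cfsg.IrrCharacter G => ψ ∈ f), n ψ, fun j hj => ?_⟩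
    have h1 : chiLin (fun g => φ l (pReg (p := p) g)) (ε j) = chiLin (φ l) (ε j) :=
      Decomp.chiLin_congr_regular hM (hε j).1 (hε j).2.1
        (CharInduce.IsGen.isClassFunction (hgen l)) (hφc l) fun g hg => by
          rw [pReg, (pPart_eq_one_iff g).2 hg, inv_one, one_mul]
    have h2 : chiLin (fun g => φ l (pReg (p := p) g)) (ε j) =
        ∑ ψ : Cfsg.IrrCharacter G, (n ψ : ℂ) * chiLin (ψ : G → ℂ) (ε j) := by
      conv_lhs => rw [classFunction_expansion (CharInduce.IsGen.isClassFunction (hgen l))]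
      simp only [chiLin, Finset.sum_apply, Pi.smul_apply, smul_eq_mul, hn, Finset.mul_sum]
      rw [Finset.sum_comm]
      exact Finset.sum_congr rfl fun ψ _ => Finset.sum_congr rfl fun g _ => by ring
    rw [← hφ l j, ← h1, h2, Int.cast_sum, Finset.sum_mul, Finset.sum_filter]
    refine Finset.sum_congr rfl fun ψ _ => ?_
    split_ifs with hψ
    · rw [chiLin_eq_of_regConst hM hreg (hε j).1 (hε j).2.1 hψ hψ₀]
    · rw [chiLin_eq_zero_of_not_mem hM hf (hε j).1 (hε j).2.1 hj hψ, mul_zero]
  have hone : ∀ j, red hM (ε j) * red hM (blockElem f) = red hM (ε j) →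
      chiLin (ψ₀ : G → ℂ) (ε j) = 1 := by
    intro j hj
    obtain ⟨K, hK⟩ := key j
    have h := hK j hj
    obtain ⟨m, hm⟩ := Decomp.exists_nat_chiLin (hε j).1 ψ₀
    rw [if_pos rfl, hm] at h
    have h' : (1 : ℤ) = K * m := by exact_mod_cast h
    have hdvd : (m : ℤ) ∣ 1 := ⟨K, by rw [h', mul_comm]⟩
    have hm1 : m = 1 := Nat.dvd_one.1 (by exact_mod_cast hdvd)
    rw [hm, hm1, Nat.cast_one]
  refine ⟨fun ψ hψ => by rw [chiLin_eq_of_regConst hM hreg (hε i).1 (hε i).2.1 hψ hψ₀, hone i hi],
    fun j hj => ?_⟩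
  by_contra hne
  obtain ⟨K, hK⟩ := key i
  have h1 := hK i hi
  have h2 := hK j hj
  rw [if_pos rfl, hone i hi] at h1
  rw [if_neg (Ne.symm hne), hone j hj, ← h1] at h2
  exact zero_ne_one h2

include hε in
/-- A primitive idempotent of the block is equivalent to the idempotent of a simple factor. -/
theorem exists_equiv_family (hf : Cfsg.IsPBlock M f) {t : MonoidAlgebra (Residue hM) G}
    (ht : IsPrim (⊤ : Subalgebra (Residue hM) (MonoidAlgebra (Residue hM) G)) t)
    (htf : t * red hM (blockElem f) = t) :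
    ∃ (i : Fin W.num) (A B : MonoidAlgebra (Residue hM) G), A * B = t ∧ B * A = red hM (ε i) ∧
      A * red hM (ε i) = A ∧ red hM (ε i) * red hM (blockElem f) = red hM (ε i) := by
  classical
  haveI : Module.Finite (Residue hM) (MonoidAlgebra (Residue hM) G) :=
    Module.Finite.of_basis (MonoidAlgebra.basis G (Residue hM))
  have htt := ht.2.1
  obtain ⟨i, hi⟩ : ∃ i, W.map t i ≠ 0 := by
    refine Function.ne_iff.1 (fun h0 : W.map t = 0 => ht.2.2.1 ?_)
    obtain ⟨N, hN⟩ := W.nil _ h0
    rw [← (show IsIdempotentElem t from htt).pow_succ_eq N, pow_succ, hN, zero_mul]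
  obtain ⟨b, a, hab⟩ : ∃ b a, W.map t i b a ≠ 0 := by
    by_contra hc
    push Not at hc
    exact hi (Matrix.ext hc)
  haveI := W.dim_ne i
  obtain ⟨x₀, hx₀⟩ := W.surj (Pi.single i (Matrix.single a 0 1))
  obtain ⟨y₀, hy₀⟩ := W.surj (Pi.single i (Matrix.single 0 b (W.map t i b a)⁻¹))
  set η := red hM (ε i) with hη
  have hηη : η * η = η := by rw [hη, ← red_mul hM (hε i).2.1 (hε i).2.1, (hε i).1]
  have hηm : W.map η = Pi.single i (Matrix.single 0 0 1) := (hε i).2.2
  -- the corner element
  set A₀ := t * x₀ * η with hA₀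
  set B := η * y₀ * t with hB
  have hBA₀ : W.map (B * A₀) = Pi.single i (Matrix.single 0 0 1) := by
    rw [show B * A₀ = η * y₀ * t * x₀ * η by
      simp only [hA₀, hB, ← mul_assoc, mul_assoc (η * y₀) t t, htt]]
    simp only [map_mul, hx₀, hy₀, hηm]
    funext l
    simp only [Pi.mul_apply]
    by_cases hl : l = i
    · subst hl
      simp only [Pi.single_eq_same]
      rw [Matrix.single_mul_single_same, one_mul, single_mul_mul_single, inv_mul_cancel₀ hab,
        one_mul, Matrix.single_mul_single_same, one_mul]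
    · simp [Pi.single_eq_of_ne hl]
  have hunit : ¬ IsNilpotent (Pi.single i (Matrix.single 0 0 1) :
      Π l, Matrix (Fin (W.dim l)) (Fin (W.dim l)) (Residue hM)) := by
    rintro ⟨n, hn⟩
    have he : IsIdempotentElem (Pi.single i (Matrix.single 0 0 1) :
        Π l, Matrix (Fin (W.dim l)) (Fin (W.dim l)) (Residue hM)) := by
      rw [IsIdempotentElem, ← Pi.single_mul, Matrix.single_mul_single_same, mul_one]
    have h := he.pow_succ_eq n
    rw [pow_succ, hn, zero_mul] at h
    have h' := congrFun h i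
    rw [Pi.zero_apply, Pi.single_eq_same] at h'
    exact zero_ne_one ((congrFun (congrFun h' 0) 0).trans (Matrix.single_apply_same ..))
  have hcn : ¬ IsNilpotent (A₀ * B) := by
    rintro ⟨n, hn⟩
    refine hunit ⟨n + 1, ?_⟩
    rw [← hBA₀, ← map_pow]
    have hpow : ∀ m : ℕ, (B * A₀) ^ (m + 1) = B * (A₀ * B) ^ m * A₀ := by
      intro m
      induction m with
      | zero => simp
      | succ m ih => rw [pow_succ, ih, pow_succ (A₀ * B)]; simp only [mul_assoc]
    rw [hpow, hn, mul_zero, zero_mul, map_zero]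
  have hc : InCorner (⊤ : Subalgebra (Residue hM) (MonoidAlgebra (Residue hM) G)) t (A₀ * B) := ⟨Algebra.mem_top, by
    simp only [hA₀, ← mul_assoc, htt], by simp only [hB, mul_assoc, htt]⟩
  obtain ⟨z, hz, -, hzc⟩ := exists_inv_of_not_nilpotent ht hc hcn
  set A := z * A₀ with hA
  have hAB : A * B = t := by rw [hA, mul_assoc, hzc]
  have hBt : B * t = B := by simp only [hB, mul_assoc, htt]
  have hAt : t * A = A := by rw [hA, ← mul_assoc, hz.2.1]
  have hAη : A * η = A := by simp only [hA, hA₀, mul_assoc, hηη]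
  have hηBA : η * (B * A) = B * A := by simp only [hB, ← mul_assoc, hηη]
  have hBAη : B * A * η = B * A := by rw [mul_assoc, hAη]
  have hBA2 : B * A * (B * A) = B * A := by
    rw [mul_assoc, ← mul_assoc A, hAB, hAt]
  have hne : W.map (B * A) ≠ 0 := by
    intro h0
    obtain ⟨n, hn⟩ := W.nil _ h0
    have hz0 : B * A = 0 := by
      rw [← (show IsIdempotentElem (B * A) from hBA2).pow_succ_eq n, pow_succ, hn, zero_mul]
    apply ht.2.2.1
    calc t = A * B * (A * B) := by rw [hAB, htt]
      _ = A * (B * A) * B := by simp only [mul_assoc]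
      _ = 0 := by rw [hz0, mul_zero, zero_mul]
  have hm : W.map (η - B * A) = 0 := by
    have h3 : W.map η * W.map (B * A) * W.map η = W.map (B * A) := by
      rw [← map_mul, ← map_mul, hηBA, hBAη]
    have hsq : W.map (B * A) * W.map (B * A) = W.map (B * A) := by rw [← map_mul, hBA2]
    rw [map_sub, hηm] at *
    generalize W.map (B * A) = X at h3 hne hsq ⊢
    have hX : X = Pi.single i (Matrix.single 0 0 (X i 0 0)) := by
      funext l
      conv_lhs => rw [← h3]
      simp only [Pi.mul_apply]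
      by_cases hl : l = i
      · subst hl
        simp only [Pi.single_eq_same]
        rw [single_mul_mul_single, one_mul, mul_one]
      · simp [Pi.single_eq_of_ne hl]
    generalize X i 0 0 = c at hX
    subst hX
    have hc1 : c * c = c := by
      rw [← Pi.single_mul, Matrix.single_mul_single_same] at hsq
      have h4 := congrFun (congrFun (congrFun hsq i) 0) 0
      simpa using h4
    have hc0 : c ≠ 0 := fun h => hne (by rw [h, Matrix.single_zero, Pi.single_zero])
    rw [(mul_eq_left₀ hc0).1 hc1, sub_self]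
  have hBAeq : B * A = η := by
    have hd : (η - B * A) * (η - B * A) = η - B * A := by
      rw [sub_mul, mul_sub, mul_sub, hηη, hηBA, hBAη, hBA2, sub_self, sub_zero]
    obtain ⟨n, hn⟩ := W.nil _ hm
    refine (sub_eq_zero.1 ?_).symm
    rw [← (show IsIdempotentElem (η - B * A) from hd).pow_succ_eq n, pow_succ, hn, zero_mul]
  refine ⟨i, A, B, hAB, hBAeq, hAη, ?_⟩
  rw [← hη, ← hBAeq]
  calc B * A * red hM (blockElem f) = B * red hM (blockElem f) * A := by
        rw [mul_assoc B A, ← red_blockElem_comm hM hf A, ← mul_assoc]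
    _ = B * t * red hM (blockElem f) * A := by rw [hBt]
    _ = B * A := by rw [mul_assoc B t, htf, hBt]

end Family

/-- Lifts of primitive idempotents of the block have the value one. -/
theorem chiLin_prim_eq_one (hM : Cfsg.IsPModular p M) (hf : Cfsg.IsPBlock M f)
    (hreg : RegConst p f) {t : MonoidAlgebra (Residue hM) G}
    (ht : IsPrim (⊤ : Subalgebra (Residue hM) (MonoidAlgebra (Residue hM) G)) t)
    (htf : t * red hM (blockElem f) = t) {w : MonoidAlgebra ℂ G} (hw : w * w = w)
    (hwi : IsIntElt M w) (hwr : red hM w = t) {ψ : Cfsg.IrrCharacter G} (hψ : ψ ∈ f) :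
    chiLin (ψ : G → ℂ) w = 1 := by
  haveI : IsAlgClosed (Residue hM) := isAlgClosed_residue hM
  obtain ⟨W⟩ := exists_model (k := Residue hM) (G := G)
  obtain ⟨ε, hε⟩ := Decomp.exists_family hM W
  obtain ⟨i, A, B, hAB, hBA, -, hi⟩ := exists_equiv_family hε hf ht htf
  rw [chiLin_eq_of_equiv hM (a := A) (b := B) (by rw [hAB, ht.2.1])
    (by rw [hBA, ← red_mul hM (hε i).2.1 (hε i).2.1, (hε i).1]) hw hwi (hwr.trans hAB.symm)
    (hε i).1 (hε i).2.1 hBA.symm (IsIrr.isClassFunction ψ.2)]
  exact (family_block hε hf hreg hi).1 ψ hψ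

/-- Primitive idempotents of the block are equivalent. -/
theorem exists_equiv_prim (hM : Cfsg.IsPModular p M) (hf : Cfsg.IsPBlock M f)
    (hreg : RegConst p f) {t t' : MonoidAlgebra (Residue hM) G}
    (ht : IsPrim (⊤ : Subalgebra (Residue hM) (MonoidAlgebra (Residue hM) G)) t)
    (htf : t * red hM (blockElem f) = t)
    (ht' : IsPrim (⊤ : Subalgebra (Residue hM) (MonoidAlgebra (Residue hM) G)) t')
    (htf' : t' * red hM (blockElem f) = t') :
    ∃ a b : MonoidAlgebra (Residue hM) G, a * b = t ∧ b * a = t' := by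
  haveI : IsAlgClosed (Residue hM) := isAlgClosed_residue hM
  obtain ⟨W⟩ := exists_model (k := Residue hM) (G := G)
  obtain ⟨ε, hε⟩ := Decomp.exists_family hM W
  obtain ⟨i, A, B, hAB, hBA, hAη, hi⟩ := exists_equiv_family hε hf ht htf
  obtain ⟨i', A', B', hAB', hBA', hAη', hi'⟩ := exists_equiv_family hε hf ht' htf'
  obtain rfl := (family_block hε hf hreg hi).2 i' hi'
  refine ⟨A * B', A' * B, ?_, ?_⟩
  · rw [mul_assoc, ← mul_assoc B', hBA', ← mul_assoc, hAη, hAB]
  · rw [mul_assoc, ← mul_assoc B, hBA, ← mul_assoc, hAη', hAB']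

end Cfsg.Agent.H80.PuigUsami
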