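import Cfsg.Agent.H83.Decomp
import Cfsg.Agent.H83.StarNorm
import Cfsg.Agent.H80.Watanabe.Trace

/-!
The value of a character at a `p`-element times an idempotent whose truncation lies in one block
of the centralizer.
-/

set_option linter.style.haveILetI false

open scoped ComplexConjugate

namespace Cfsg.Agent.H80.PuigUsami

open H83 H83.Star MonoidAlgebra BlockBasic

universe u

variable {p : ℕ} [hp : Fact p.Prime] {M : Ideal Cfsg.AlgInt} {G : Type u} [Group G] [Fintype G]

/-- Idempotents with the same reduction have the same values. -/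
theorem chiLin_eq_of_red (hM : Cfsg.IsPModular p M) {z w : MonoidAlgebra ℂ G} (hz : z * z = z)
    (hzi : IsIntElt M z) (hw : w * w = w) (hwi : IsIntElt M w) (hr : red hM z = red hM w)
    {f : G → ℂ} (hf : Cfsg.IsClassFunction G f) : chiLin f z = chiLin f w := by
  have h := chiLin_single_mul_eq hM (1 : G) (e := 0) (by simp) z w hzi hwi hz hw (by simp)
    (by simp) (fun g _ => ?_) hf
  · rwa [← one_def, one_mul, one_mul] at h
  · have h1 := congrArg (fun y => y.coeff g) hr
    simp only [coeff_red] at h1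
    have h2 := res_add hM ((locRing hM).sub_mem (hzi g) (hwi g)) (hwi g)
    rw [sub_add_cancel, h1] at h2
    exact (res_eq_zero_iff hM ((locRing hM).sub_mem (hzi g) (hwi g))).1 (by simpa using h2.symm)

omit hp in
theorem chiLin_incl (C : Subgroup G) [Fintype C] (w : MonoidAlgebra ℂ C) (f : G → ℂ) :
    chiLin f (incl C w) = ∑ c : C, w.coeff c * f c := by
  classical
  rw [chiLin, ← Finset.sum_subset (Finset.subset_univ ((Finset.univ : Finset G).filter (· ∈ C)))
    fun g _ hg => by
      rw [suppIn_incl C w g fun h => hg (Finset.mem_filter.2 ⟨Finset.mem_univ g, h⟩), zero_mul],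
    Finset.sum_subtype (p := fun g => g ∈ C) _ (fun g => by simp)]
  exact Finset.sum_congr rfl fun c _ => by rw [coeff_incl]

/-- The idempotent of a truncation inside one block. -/
theorem exists_block_idem (hM : Cfsg.IsPModular p M) (C : Subgroup G) [Fintype C]
    {t : MonoidAlgebra (Residue hM) G} (hts : SuppIn C t) (htt : t * t = t)
    {b : Set (Cfsg.IrrCharacter C)} (hb : Cfsg.IsPBlock M b) (htb : t * ebar hM C b = t) :
    ∃ w : MonoidAlgebra ℂ C, w * w = w ∧ IsIntElt M w ∧ incl C (red hM w) = t ∧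
      ∀ ψ : Cfsg.IrrCharacter C, ψ ∉ b → chiLin (ψ : C → ℂ) w = 0 := by
  classical
  obtain ⟨a, rfl⟩ := exists_incl hts
  have haa : a * a = a := incl_injective C (by rw [map_mul, htt])
  rw [ebar_eq_incl, ← map_mul] at htb
  have hab : a * red hM (blockElem b) = a := incl_injective C htb
  have hba : red hM (blockElem b) * a = a := by
    refine incl_injective C ?_
    rw [map_mul, ← ebar_eq_incl, ← ((suppIn_incl C a).commute (invBy_ebar hM C b)).eq, ebar_eq_incl,
      ← map_mul, hab]
  obtain ⟨w, hw, hwi, hwr, hbw, -⟩ := exists_idem_lift_corner hM haa (blockElem_idem b)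
    (isIntElt_blockElem hM hb) hba hab
  refine ⟨w, hw, hwi, by rw [hwr], fun ψ hψ => ?_⟩
  rw [← hbw, chiLin_blockElem_mul, if_neg hψ]

open scoped Classical in
/-- The value at `x` times an idempotent. -/
theorem chiLin_single_mul_block (hM : Cfsg.IsPModular p M) {x : G} {k : ℕ} (hx : orderOf x = p ^ k)
    [Fintype (cen x)] {a : Cfsg.IrrCharacter (cen x) → ℂ}
    (ha : ∀ (ψ : Cfsg.IrrCharacter (cen x)) (c : cen x),
      (ψ : cen x → ℂ) (⟨x, self_mem_cen x⟩ * c) = a ψ * (ψ : cen x → ℂ) c)
    {E : MonoidAlgebra ℂ G} (hE : E * E = E) (hEi : IsIntElt M E)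
    (hEx : InvBy (Subgroup.zpowers x) E) {w : MonoidAlgebra ℂ (cen x)} (hw : w * w = w)
    (hwi : IsIntElt M w) (hwr : incl (cen x) (red hM w) = trunc (cen x) (red hM E))
    (χ : Cfsg.IrrCharacter G) :
    chiLin (χ : G → ℂ) (single x 1 * E) =
      ∑ ψ : Cfsg.IrrCharacter (cen x), (H83.mult χ ψ : ℂ) * a ψ * chiLin (ψ : cen x → ℂ) w := by
  have hf := CharBasic.IsIrr.isClassFunction χ.2
  have hwG : IsIntElt M (incl (cen x) w) := fun g => by
    by_cases hg : g ∈ cen x
    · rw [show g = ((⟨g, hg⟩ : cen x) : G) from rfl, coeff_incl]; exact hwi _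
    · rw [suppIn_incl (cen x) w g hg]; exact (locRing hM).zero_mem
  have hwinv : InvBy (Subgroup.zpowers x) (incl (cen x) w) := (suppIn_incl (cen x) w).invBy
  rw [← starVal_eq hM hf hx (E := E) (ε := trunc (cen x) (red hM E)) ⟨hE, hEi, hEx, rfl⟩,
    starVal_eq hM hf hx (E := incl (cen x) w) ⟨by rw [← map_mul, hw], hwG, hwinv, by
      rw [red_incl, hwr, trunc_trunc le_rfl]⟩]
  have hs : chiLin (χ : G → ℂ) (single x 1 * incl (cen x) w) =
      ∑ c : cen x, w.coeff c * (χ : G → ℂ) (x * (c : G)) := by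
    rw [show single x (1 : ℂ) * incl (cen x) w =
        incl (cen x) (single ⟨x, self_mem_cen x⟩ 1 * w) by
      rw [map_mul]
      congr 1
      simp [incl], chiLin_incl]
    refine Fintype.sum_equiv (Equiv.mulLeft (⟨x, self_mem_cen x⟩ : cen x)⁻¹) _ _ fun c => ?_
    rw [coeff_single_mul_apply, one_mul]
    congr 2
    simp
  rw [hs]
  have hterm : ∀ c : cen x, w.coeff c * (χ : G → ℂ) (x * (c : G)) =
      ∑ ψ : Cfsg.IrrCharacter (cen x),
        (H83.mult χ ψ : ℂ) * a ψ * (w.coeff c * (ψ : cen x → ℂ) c) := fun c => by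
    rw [show x * (c : G) = ((⟨x, self_mem_cen x⟩ * c : cen x) : G) from rfl, restrict_eq_sum,
      Finset.mul_sum]
    exact Finset.sum_congr rfl fun ψ _ => by rw [ha]; ring
  rw [Finset.sum_congr rfl fun c _ => hterm c, Finset.sum_comm]
  exact Finset.sum_congr rfl fun ψ _ => by rw [chiLin, Finset.mul_sum]

end Cfsg.Agent.H80.PuigUsami
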