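import Cfsg.Agent.H80.PuigUsami.Idem
import Cfsg.Agent.H80.PuigUsami.AbChar
import Cfsg.Agent.H80.Watanabe.Local
import Cfsg.Agent.H82.StarNilpotent
import Cfsg.Agent.H83.StarCount
import Cfsg.Agent.S4687

/-!
The decomposition values of a block with commutative defect group and free inertial action at the
elements of the defect group.
-/

set_option linter.style.haveILetI false

open scoped ComplexConjugate

namespace Cfsg.Agent.H80.PuigUsami

open H83 H83.Star MonoidAlgebra BlockBasic CharBasic Watanabe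

universe u

variable {p : ℕ} [hp : Fact p.Prime] {M : Ideal Cfsg.AlgInt} {G : Type u} [Group G] [Fintype G]
  {B : Set (Cfsg.IrrCharacter G)} {P : Subgroup G}
  {c : Set (Cfsg.IrrCharacter (Subgroup.centralizer (P : Set G)))}

/-- The inertial action is free. -/
def FreeAct (P : Subgroup G) (c : Set (Cfsg.IrrCharacter (Subgroup.centralizer (P : Set G)))) : Prop :=
  ∀ t ∈ stab P c, ∀ v ∈ P, v ≠ 1 → t * v * t⁻¹ = v → t ∈ Subgroup.centralizer (P : Set G)

omit hp in
theorem card_irr_of_comm {A : Type u} [Group A] [Fintype A] (h : ∀ x y : A, x * y = y * x) :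
    Nat.card (Cfsg.IrrCharacter A) = Nat.card A := by
  have h1 := sum_sq_degree (G := A)
  rw [Finset.sum_congr rfl (g := fun _ => (1 : ℂ)) fun ψ _ => by
      rw [CharInduce.IsIrr.degree_one_of_comm h ψ.2, one_pow],
    Finset.sum_const, Finset.card_univ, nsmul_eq_mul, mul_one, ← Nat.card_eq_fintype_card] at h1
  exact Nat.cast_injective h1

/-- A nilpotent block with commutative defect group. -/
theorem regConst_of_nilpotent (hM : Cfsg.IsPModular p M)
    (hmax : Cfsg.IsMaximalBrauerPair p M B P c) (hab : ∀ x ∈ P, ∀ y ∈ P, x * y = y * x)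
    (hnil : Cfsg.IsNilpotentBlock p M B) : RegConst p B ∧ Nat.card B = Nat.card P := by
  classical
  obtain ⟨χ₀, hχ₀, h0⟩ := H83.exists_height_zero hM hmax.1.2.1
  obtain ⟨Ψ, hinj, hrange, hreg⟩ := H82.Star.exists_parametrization hM hmax hnil hχ₀ h0
  have hcomm : ∀ x y : P, x * y = y * x := fun x y => Subtype.ext (hab _ x.2 _ y.2)
  refine ⟨?_, ?_⟩
  · have key : ∀ ψ ∈ B, ∀ g : G, ¬ p ∣ orderOf g → (ψ : G → ℂ) g = (χ₀ : G → ℂ) g := by
      intro ψ hψ g hg
      rw [← hrange] at hψ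
      obtain ⟨ρ, rfl⟩ := hψ
      have h := congrFun (hreg ρ) g
      have hd : (Cfsg.charDegree (ρ : P → ℂ) : ℂ) = 1 := by
        rw [← (H83.charDegree_eq ρ.2).1, CharInduce.IsIrr.degree_one_of_comm hcomm ρ.2]
      rwa [Pi.smul_apply, smul_eq_mul, pRegularPart_eq_self _ hg, pRegularPart_eq_self _ hg, hd,
        one_mul] at h
    exact fun ψ hψ ψ' hψ' g hg => (key ψ hψ g hg).trans (key ψ' hψ' g hg).symm
  · rw [← hrange, Nat.card_range_of_injective hinj, card_irr_of_comm hcomm]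

/-- The pairs below `(P, c)` on nontrivial subgroups are nilpotent blocks. -/
theorem nilpotent_below (hM : Cfsg.IsPModular p M) (hmax : Cfsg.IsMaximalBrauerPair p M B P c)
    (hab : ∀ x ∈ P, ∀ y ∈ P, x * y = y * x) (hfree : FreeAct P c) {Q : Subgroup G} (hQ : Q ≠ ⊥)
    {f : Set (Cfsg.IrrCharacter (Subgroup.centralizer (Q : Set G)))}
    (hle : Cfsg.SubpairLE p M Q f P c) : Cfsg.IsNilpotentBlock p M f :=
  (H24.AbelianPair.free_iff hM hmax hab (T := stab P c)
    fun g => (H82.stabilizesBlock_iff_conjPair hM hmax.1.1.2).symm).1 hfree Q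
      (H82.le_of_subpairLE hle) hQ f
      ((H24.AbelianPair.inducedIn_iff hM hmax hab (H82.isBrauerPair_of_subpairLE hle hmax.1.1).2
        hle f).2 rfl)

theorem regConst_below (hM : Cfsg.IsPModular p M) (hmax : Cfsg.IsMaximalBrauerPair p M B P c)
    (hab : ∀ x ∈ P, ∀ y ∈ P, x * y = y * x) (hfree : FreeAct P c) {Q : Subgroup G} (hQ : Q ≠ ⊥)
    {f : Set (Cfsg.IrrCharacter (Subgroup.centralizer (Q : Set G)))}
    (hle : Cfsg.SubpairLE p M Q f P c) : RegConst p f ∧ Nat.card f = Nat.card P := by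
  obtain ⟨⟨A, k⟩, hr, hA⟩ := exists_local hM hmax hab hle
  cases nonempty_fintype (Subgroup.centralizer (Q : Set G))
  have hmap : P = A.map (Subgroup.centralizer (Q : Set G)).subtype := hr.1
  have h := regConst_of_nilpotent hM hA (fun x hx y hy => Subtype.ext
    (hab _ (hmap.ge ⟨x, hx, rfl⟩) _ (hmap.ge ⟨y, hy, rfl⟩))) (nilpotent_below hM hmax hab hfree hQ hle)
  refine ⟨h.1, h.2.trans ?_⟩
  rw [hmap]
  exact (Subgroup.card_map_of_injective (Subgroup.centralizer (Q : Set G)).subtype_injective).symm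

open scoped Classical in
/-- The pair below `(P, c)` at an element. -/
noncomputable def bAt (p : ℕ) (M : Ideal Cfsg.AlgInt) (P : Subgroup G)
    (c : Set (Cfsg.IrrCharacter (Subgroup.centralizer (P : Set G)))) (v : G) :
    Set (Cfsg.IrrCharacter (cen v)) :=
  if h : ∃ f, Cfsg.SubpairLE p M (Subgroup.zpowers v) f P c then h.choose else ∅

theorem bAt_le (hM : Cfsg.IsPModular p M) (hPc : Cfsg.IsBrauerPair p M P c) {v : G} (hv : v ∈ P) :
    Cfsg.SubpairLE p M (Subgroup.zpowers v) (bAt p M P c v) P c := by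
  have h : ∃ f, Cfsg.SubpairLE p M (Subgroup.zpowers v) f P c := by
    obtain ⟨f, -, hf⟩ := H82.exists_subpair hM hPc (Subgroup.zpowers_le.2 hv)
    exact ⟨f, hf⟩
  rw [bAt, dif_pos h]
  exact h.choose_spec

theorem isPBlock_bAt (hM : Cfsg.IsPModular p M) (hPc : Cfsg.IsBrauerPair p M P c) {v : G}
    (hv : v ∈ P) : Cfsg.IsPBlock M (bAt p M P c v) :=
  (H82.isBrauerPair_of_subpairLE (bAt_le hM hPc hv) hPc).2

theorem major_bAt (hM : Cfsg.IsPModular p M) (hmax : Cfsg.IsMaximalBrauerPair p M B P c)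
    (hab : ∀ x ∈ P, ∀ y ∈ P, x * y = y * x) {v : G} (hv : v ∈ P) :
    Cfsg.IsInducedBlock M (cen v) (bAt p M P c v) B ∧
      Cfsg.blockDefect p (bAt p M P c v) = Cfsg.blockDefect p B := by
  have huC : P ≤ Subgroup.centralizer (Subgroup.zpowers v : Set G) :=
    le_centralizer_of_comm hab (Subgroup.zpowers_le.2 hv) le_rfl
  exact H83.major_of_le hM hmax (hmax.1.1.1.to_le (Subgroup.zpowers_le.2 hv))
    (fun q hq => huC (Subgroup.zpowers_le.2 hv hq)) huC (bAt_le hM hmax.1.1 hv)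

/-- The scalar of a central element at a character of its centralizer. -/
noncomputable def aVal (v : G) (ψ : Cfsg.IrrCharacter (cen v)) : ℂ :=
  (ψ : cen v → ℂ) ⟨v, self_mem_cen v⟩ / (ψ : cen v → ℂ) 1

omit hp in
theorem aVal_spec (v : G) [Fintype (cen v)] (ψ : Cfsg.IrrCharacter (cen v)) (s : cen v) :
    (ψ : cen v → ℂ) (⟨v, self_mem_cen v⟩ * s) = aVal v ψ * (ψ : cen v → ℂ) s := by
  obtain ⟨a, ha⟩ := subgroup_scalars (self_mem_cen v) fun d hd => (mem_cen_iff.1 hd).eq
  have h1 := ha ψ 1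
  rw [mul_one] at h1
  rw [aVal, h1, mul_div_cancel_right₀ _ (IsIrr.one_ne_zero ψ.2), ha]

omit hp in
theorem isIntegral_aVal (v : G) [Fintype (cen v)] (ψ : Cfsg.IrrCharacter (cen v)) :
    IsIntegral ℤ (aVal v ψ) := by
  set g : cen v := ⟨v, self_mem_cen v⟩
  have hpow : ∀ k : ℕ, (ψ : cen v → ℂ) (g ^ k) = aVal v ψ ^ k * (ψ : cen v → ℂ) 1 := by
    intro k
    induction k with
    | zero => simp
    | succ k ih => rw [pow_succ', aVal_spec v ψ, ih, pow_succ', mul_assoc]
  refine IsIntegral.of_pow (orderOf_pos g) ?_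
  have h := hpow (orderOf g)
  rw [pow_orderOf_eq_one] at h
  rw [mul_right_cancel₀ (IsIrr.one_ne_zero ψ.2) (h.symm.trans (one_mul _).symm)]
  exact isIntegral_one

open scoped Classical in
/-- The decomposition value of `χ` at `v`. -/
noncomputable def Dval (p : ℕ) (M : Ideal Cfsg.AlgInt) (P : Subgroup G)
    (c : Set (Cfsg.IrrCharacter (Subgroup.centralizer (P : Set G)))) (χ : Cfsg.IrrCharacter G)
    (v : G) : ℂ :=
  haveI := Fintype.ofFinite (cen v)
  ∑ ψ ∈ Finset.univ.filter (fun ψ : Cfsg.IrrCharacter (cen v) => ψ ∈ bAt p M P c v),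
    (H83.mult χ ψ : ℂ) * aVal v ψ

open scoped Classical in
omit hp in
theorem Dval_eq (χ : Cfsg.IrrCharacter G) (v : G) [Fintype (cen v)] :
    Dval p M P c χ v =
      ∑ ψ ∈ Finset.univ.filter (fun ψ : Cfsg.IrrCharacter (cen v) => ψ ∈ bAt p M P c v),
        (H83.mult χ ψ : ℂ) * aVal v ψ := by
  rw [Dval, Subsingleton.elim (Fintype.ofFinite (cen v)) ‹Fintype (cen v)›]

omit hp in
theorem isIntegral_Dval (χ : Cfsg.IrrCharacter G) (v : G) : IsIntegral ℤ (Dval p M P c χ v) := by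
  classical
  cases nonempty_fintype (cen v)
  rw [Dval_eq]
  exact IsIntegral.sum _ fun ψ _ =>
    (isIntegral_algebraMap (x := (H83.mult χ ψ : ℤ))).mul (isIntegral_aVal v ψ) |> fun h => by
      simpa using h

open scoped Classical in
omit hp in
/-- The part at a pair and the decomposition value. -/
theorem partVal_eq {v : G} [Fintype (cen v)] (hreg : RegConst p (bAt p M P c v))
    {ψ₀ : Cfsg.IrrCharacter (cen v)} (hψ₀ : ψ₀ ∈ bAt p M P c v) (χ : Cfsg.IrrCharacter G)
    {s : cen v} (hs : ¬ p ∣ orderOf s) :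
    ∑ ψ ∈ Finset.univ.filter (fun ψ : Cfsg.IrrCharacter (cen v) => ψ ∈ bAt p M P c v),
        (H83.mult χ ψ : ℂ) * aVal v ψ * (ψ : cen v → ℂ) s =
      (ψ₀ : cen v → ℂ) s * Dval p M P c χ v := by
  rw [Dval_eq, Finset.mul_sum]
  refine Finset.sum_congr rfl fun ψ hψ => ?_
  rw [hreg ψ (Finset.mem_filter.1 hψ).2 ψ₀ hψ₀ s hs]
  ring

theorem not_dvd_orderOf_one {H : Type*} [Monoid H] : ¬ p ∣ orderOf (1 : H) := by
  rw [orderOf_one, Nat.dvd_one]
  exact hp.out.ne_one

open scoped Classical in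
/-- The part of a character at `v` through the block idempotent. -/
theorem chiLin_bAt_eq (hM : Cfsg.IsPModular p M) (hmax : Cfsg.IsMaximalBrauerPair p M B P c)
    (hab : ∀ x ∈ P, ∀ y ∈ P, x * y = y * x) (hfree : FreeAct P c) {v : G} (hv : v ∈ P) (hv1 : v ≠ 1)
    [Fintype (cen v)] {ψ₀ : Cfsg.IrrCharacter (cen v)} (hψ₀ : ψ₀ ∈ bAt p M P c v)
    (χ : Cfsg.IrrCharacter G) :
    chiLin (χ : G → ℂ) (single v 1 * H82.blockUp (cen v) (bAt p M P c v) * single 1 1) =
      (ψ₀ : cen v → ℂ) 1 * Dval p M P c χ v := by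
  have hreg := (regConst_below hM hmax hab hfree (by simpa using hv1)
    (bAt_le hM hmax.1.1 hv)).1
  rw [chiLin_shift]
  simp only [H82.coeff_blockUp]
  have h := sum_subgroupBlockCoeff_shift (self_mem_cen v) (bAt p M P c v) χ (aVal v)
    (aVal_spec v) (1 : cen v)
  rw [show ((1 : cen v) : G) = 1 from rfl] at h
  rw [h, partVal_eq hreg hψ₀ χ not_dvd_orderOf_one]

open scoped Classical in
/-- Every character of the block sees every element. -/
theorem Dval_ne_zero (hM : Cfsg.IsPModular p M) (hmax : Cfsg.IsMaximalBrauerPair p M B P c)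
    (hab : ∀ x ∈ P, ∀ y ∈ P, x * y = y * x) (hfree : FreeAct P c) {v : G} (hv : v ∈ P) (hv1 : v ≠ 1)
    {χ : Cfsg.IrrCharacter G} (hχ : χ ∈ B) : Dval p M P c χ v ≠ 0 := by
  cases nonempty_fintype (cen v)
  obtain ⟨k, hk⟩ := exists_orderOf_of_mem hmax.1.1.1 hv
  obtain ⟨ψ₀, hψ₀⟩ := isPBlock_nonempty hM (isPBlock_bAt hM hmax.1.1 hv)
  obtain ⟨hind, hdef⟩ := major_bAt hM hmax hab hv
  obtain ⟨s, hs, hne⟩ := exists_part_ne_zero hM hk (cen v) (cen_eq_singleton _) hind hdef
    (self_mem_cen v) (aVal_spec v) hχ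
  rw [partVal_eq (regConst_below hM hmax hab hfree (by simpa using hv1)
    (bAt_le hM hmax.1.1 hv)).1 hψ₀ χ hs] at hne
  exact right_ne_zero_of_mul hne

open scoped Classical in
/-- The square sum of the decomposition values. -/
theorem sum_Dval_sq (hM : Cfsg.IsPModular p M) (hmax : Cfsg.IsMaximalBrauerPair p M B P c)
    (hab : ∀ x ∈ P, ∀ y ∈ P, x * y = y * x) (hfree : FreeAct P c) {v : G} (hv : v ∈ P) (hv1 : v ≠ 1) :
    (∑ χ : Cfsg.IrrCharacter G,
      if χ ∈ B then conj (Dval p M P c χ v) * Dval p M P c χ v else 0) = (Nat.card P : ℂ) := by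
  cases nonempty_fintype (cen v)
  obtain ⟨k, hk⟩ := exists_orderOf_of_mem hmax.1.1.1 hv
  have hb := isPBlock_bAt (c := c) hM hmax.1.1 hv
  obtain ⟨ψ₀, hψ₀⟩ := isPBlock_nonempty hM hb
  obtain ⟨hreg, hcard⟩ := regConst_below hM hmax hab hfree (by simpa using hv1)
    (bAt_le hM hmax.1.1 hv)
  have h := sum_parts hM hmax.1.2.1 hk (cen v) (cen_eq_singleton v) hb hb
    (s := (1 : cen v)) not_dvd_orderOf_one
  rw [if_pos (major_bAt hM hmax hab hv).1] at h
  simp only [blockPart_shift_eq (cen v) (self_mem_cen v) _ (aVal_spec v),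
    partVal_eq hreg hψ₀ _ (not_dvd_orderOf_one (p := p)), map_mul, and_self] at h
  set z := (ψ₀ : cen v → ℂ) 1
  have hz : z ≠ 0 := IsIrr.one_ne_zero ψ₀.2
  have hzz : conj z * z ≠ 0 := mul_ne_zero (fun h => hz (by simpa using congrArg conj h)) hz
  refine mul_left_cancel₀ hzz ?_
  rw [Finset.mul_sum]
  refine Eq.trans (Finset.sum_congr rfl fun χ _ => ?_) (h.trans ?_)
  · split_ifs <;> ring
  · rw [← Finset.sum_filter, Finset.sum_congr rfl (g := fun _ => conj z * z) fun ψ hψ => by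
      rw [hreg ψ (Finset.mem_filter.1 hψ).2 ψ₀ hψ₀ 1 not_dvd_orderOf_one],
      Finset.sum_const, nsmul_eq_mul, ← hcard, Nat.card_eq_fintype_card, Fintype.card_subtype,
      mul_comm]

open scoped Classical in
/-- Trivial inertial action: all values have absolute value one. -/
theorem norm_Dval_eq_one (hM : Cfsg.IsPModular p M) (hmax : Cfsg.IsMaximalBrauerPair p M B P c)
    (hab : ∀ x ∈ P, ∀ y ∈ P, x * y = y * x)
    (hfull : stab P c ≤ Subgroup.centralizer (P : Set G)) {v : G} (hv : v ∈ P) (hv1 : v ≠ 1)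
    {χ : Cfsg.IrrCharacter G} (hχ : χ ∈ B) :
    Dval p M P c χ v * conj (Dval p M P c χ v) = 1 := by
  have hfree : FreeAct P c := fun t ht _ _ _ _ => hfull ht
  obtain ⟨F, hF, -⟩ := S4677.result p M hM B P c hmax
  have hfd : ∀ lam : P →* ℂˣ, lam ∈ focalDual F := fun lam =>
    mem_focalDual hM hab hF fun t ht w => congrArg lam (Subtype.ext (by
      show t * (w : G) * t⁻¹ = (w : G)
      rw [← Subgroup.mem_centralizer_iff.1 (hfull ht) _ w.2, mul_inv_cancel_right]))
  have hB := hmax.1.2.1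
  have hU := fun lam => isUnitWeight_starLam hM hF (hfd lam)
  -- the translation rule
  have hrule : ∀ (lam : P →* ℂˣ) (x : G) (hx : x ∈ P), x ≠ 1 → ∀ θ : Cfsg.IrrCharacter G,
      Dval p M P c (starIrr hM (hU lam) θ) x = (lam ⟨x, hx⟩ : ℂ) * Dval p M P c θ x := by
    intro lam x hx hx1 θ
    cases nonempty_fintype (cen x)
    have hb := isPBlock_bAt (c := c) hM hmax.1.1 hx
    obtain ⟨ψ₀, hψ₀⟩ := isPBlock_nonempty hM hb
    have h := chiLin_starChar hM (coe_starIrr hM (hU lam) θ)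
      (x := x) (exists_orderOf_of_mem hmax.1.1.1 hx) (mem_idemsOf.2 ⟨_, hb, rfl⟩)
      (Commute.one_right x) (not_dvd_orderOf_one (p := p))
    rw [chiLin_bAt_eq hM hmax hab hfree hx hx1 hψ₀, chiLin_bAt_eq hM hmax hab hfree hx hx1 hψ₀,
      starLam_eq hF (hfd lam) (seenAt_self (u := (⟨x, hx⟩ : P)) (bAt_le hM hmax.1.1 hx)),
      mul_left_comm] at h
    exact mul_left_cancel₀ (IsIrr.one_ne_zero ψ₀.2) h
  -- the orbit is the whole block
  have hnil : Cfsg.IsNilpotentBlock p M B :=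
    (S4687.result p M hM B P c hmax hab).2 fun x hxN hxs =>
      hfull ((H82.stabilizesBlock_iff_conjPair hM hmax.1.1.2).1 ⟨hxN, hxs⟩)
  have hcard := (regConst_of_nilpotent hM hmax hab hnil).2
  let Φ : (P →* ℂˣ) → B := fun lam => ⟨starIrr hM (hU lam) χ, starIrr_mem hM (hU lam) hB hχ⟩
  have hinj : Function.Injective Φ := by
    intro lam mu h
    refine MonoidHom.ext fun x => ?_
    by_cases hx1 : (x : G) = 1
    · rw [show x = 1 from Subtype.ext hx1, map_one, map_one]
    · have h1 := hrule lam x x.2 hx1 χ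
      have h2 := hrule mu x x.2 hx1 χ
      have h' : starIrr hM (hU lam) χ = starIrr hM (hU mu) χ := congrArg Subtype.val h
      rw [h'] at h1
      exact Units.ext (mul_right_cancel₀ (Dval_ne_zero hM hmax hab hfree x.2 hx1 hχ)
        (h1.symm.trans h2))
  letI : CommGroup P :=
    { (inferInstance : Group P) with mul_comm := fun x y => Subtype.ext (hab _ x.2 _ y.2) }
  let eqv : Cfsg.IrrCharacter P ≃ (P →* ℂˣ) :=
    ⟨homOf, irrOf, irrOf_homOf, homOf_irrOf⟩
  haveI : Finite (P →* ℂˣ) := Finite.of_equiv _ eqv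
  have hbij : Function.Bijective Φ := by
    refine (Nat.bijective_iff_injective_and_card Φ).2 ⟨hinj, ?_⟩
    rw [hcard, ← Nat.card_congr eqv, card_irr_of_comm fun x y => mul_comm x y]
  have hconst : ∀ θ ∈ B, conj (Dval p M P c θ v) * Dval p M P c θ v =
      conj (Dval p M P c χ v) * Dval p M P c χ v := by
    intro θ hθ
    obtain ⟨lam, hlam⟩ := hbij.2 ⟨θ, hθ⟩
    rw [← show starIrr hM (hU lam) χ = θ from congrArg Subtype.val hlam, hrule lam v hv hv1, map_mul]
    have : conj (lam ⟨v, hv⟩ : ℂ) * (lam ⟨v, hv⟩ : ℂ) = 1 := by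
      rw [Complex.conj_mul', CharInduce.norm_hom lam, Complex.ofReal_one, one_pow]
    linear_combination (conj (Dval p M P c χ v) * Dval p M P c χ v) * this
  have h := sum_Dval_sq hM hmax hab hfree hv hv1
  rw [← Finset.sum_filter, Finset.sum_congr rfl fun θ hθ => hconst θ (Finset.mem_filter.1 hθ).2,
    Finset.sum_const, nsmul_eq_mul, ← hcard, Nat.card_eq_fintype_card, Fintype.card_subtype] at h
  rw [mul_comm]
  refine mul_left_cancel₀ ?_ (h.trans (mul_one _).symm)
  exact Nat.cast_ne_zero.2 (Finset.card_ne_zero.2 ⟨χ, Finset.mem_filter.2 ⟨Finset.mem_univ _, hχ⟩⟩)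

end Cfsg.Agent.H80.PuigUsami
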