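import Cfsg.Agent.H80.PuigUsami.Pairs

/-!
The local idempotent of the maximal pair, the integers it attaches to the subgroups of the defect
group, and the resulting values at the elements.
-/

set_option linter.style.haveILetI false

open scoped ComplexConjugate

namespace Cfsg.Agent.H80.PuigUsami

open H83 H83.Star MonoidAlgebra BlockBasic CharBasic Watanabe

universe u

variable {p : ℕ} [hp : Fact p.Prime] {M : Ideal Cfsg.AlgInt} {G : Type u} [Group G] [Fintype G]
  {B : Set (Cfsg.IrrCharacter G)} {P : Subgroup G}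
  {c : Set (Cfsg.IrrCharacter (Subgroup.centralizer (P : Set G)))}

/-- A primitive fixed idempotent seen by the maximal pair. -/
structure LocalIdem (hM : Cfsg.IsPModular p M) (P : Subgroup G)
    (c : Set (Cfsg.IrrCharacter (Subgroup.centralizer (P : Set G))))
    (j : MonoidAlgebra (Residue hM) G) : Prop where
  prim : IsPrim (fixAlg (Residue hM) P) j
  ne : trunc (Subgroup.centralizer (P : Set G)) j ≠ 0
  mem : trunc (Subgroup.centralizer (P : Set G)) j * ebar hM (Subgroup.centralizer (P : Set G)) c =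
    trunc (Subgroup.centralizer (P : Set G)) j

theorem exists_localIdem (hM : Cfsg.IsPModular p M) (hPc : Cfsg.IsBrauerPair p M P c) :
    ∃ j, LocalIdem hM P c j := by
  classical
  haveI := BlockAlgebra.isAlgClosed_residue hM
  haveI : Module.Finite (Residue hM) (MonoidAlgebra (Residue hM) G) :=
    Module.Finite.of_basis (MonoidAlgebra.basis G (Residue hM))
  obtain ⟨s, hs⟩ := exists_decomp (R := fixAlg (Residue hM) P)
    (i := (1 : MonoidAlgebra (Residue hM) G)) (Subalgebra.one_mem _) (one_mul 1)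
  obtain ⟨j, hj, hne⟩ : ∃ j ∈ s, trunc (Subgroup.centralizer (P : Set G)) j * ebar hM (Subgroup.centralizer (P : Set G)) c ≠ 0 := by
    by_contra hc'
    push Not at hc'
    refine ebar_ne_zero hM (Subgroup.centralizer (P : Set G)) hPc.2 ?_
    rw [← one_mul (ebar hM (Subgroup.centralizer (P : Set G)) c), ← trunc_one (Subgroup.centralizer (P : Set G)), ← hs.2.2, trunc_sum, Finset.sum_mul,
      Finset.sum_eq_zero hc']
  have h0 : trunc (Subgroup.centralizer (P : Set G)) j ≠ 0 := fun h => hne (by rw [h, zero_mul])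
  obtain ⟨b, hb, hbj⟩ := exists_block_trunc hPc.1 (hs.1 j hj) h0
  refine ⟨j, hs.1 j hj, h0, ?_⟩
  rcases eq_or_ne b c with rfl | hne'
  · exact hbj
  · exact absurd (by rw [← hbj, mul_assoc, ebar_mul_of_ne hM (Subgroup.centralizer (P : Set G)) hb hPc.2 hne', mul_zero]) hne

/-- Truncations of a primitive fixed idempotent are primitive among the fixed elements. -/
theorem trunc_eq_of_corner (hM : Cfsg.IsPModular p M) (hP : IsPGroup p P) {Q : Subgroup G}
    (hQP : Q ≤ P) {j : MonoidAlgebra (Residue hM) G} (hj : IsPrim (fixAlg (Residue hM) P) j)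
    {e : MonoidAlgebra (Residue hM) G} (hes : SuppIn (Subgroup.centralizer (Q : Set G)) e)
    (hei : InvBy P e) (he : e * e = e)
    (h1 : trunc (Subgroup.centralizer (Q : Set G)) j * e = e)
    (h2 : e * trunc (Subgroup.centralizer (Q : Set G)) j = e) :
    e = 0 ∨ e = trunc (Subgroup.centralizer (Q : Set G)) j := by
  haveI := BlockAlgebra.isAlgClosed_residue hM
  haveI : Module.Finite (Residue hM) (MonoidAlgebra (Residue hM) G) :=
    Module.Finite.of_basis (MonoidAlgebra.basis G (Residue hM))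
  have hR := residue_p_eq_zero hM
  have hQ : IsPGroup p Q := hP.to_le hQP
  have hji : InvBy P j := hj.1
  set L := Subgroup.centralizer (Q : Set G) with hL
  set a := j * e * j with ha
  have hac : InCorner (fixAlg (Residue hM) P) j a := InCorner.of_mem hj.1 hj.2.1 hei
  have haQ : trunc L a = e := by
    rw [ha, hL, trunc_mul hR hQ ((hji.mul hei).mono hQP) (hji.mono hQP),
      trunc_mul hR hQ (hji.mono hQP) (hei.mono hQP), trunc_of_suppIn hes, h1, h2]
  by_cases hn : IsNilpotent a
  · left
    obtain ⟨n, hn⟩ := hn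
    have hpow : ∀ m : ℕ, trunc L (a ^ (m + 1)) = e ∧ InvBy P (a ^ (m + 1)) := by
      intro m
      induction m with
      | zero => rw [pow_one]; exact ⟨haQ, hac.1⟩
      | succ m ih =>
        rw [pow_succ]
        refine ⟨?_, ih.2.mul hac.1⟩
        rw [hL, trunc_mul hR hQ (ih.2.mono hQP) (hac.1.mono hQP), ← hL, ih.1, haQ, he]
    have h := (hpow n).1
    rwa [pow_succ, hn, zero_mul, trunc_zero, eq_comm] at h
  · right
    obtain ⟨z, hz, -, hza⟩ := exists_inv_of_not_nilpotent hj hac hn
    have h := congrArg (trunc L) hza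
    rw [hL, trunc_mul hR hQ ((hz.1 : InvBy P z).mono hQP) ((hac.1 : InvBy P a).mono hQP), ← hL, haQ] at h
    have h' := congrArg (· * e) h
    simp only [mul_assoc, he] at h'
    rw [h, h1] at h'
    exact h'.symm

theorem trunc_centralizer_ne_zero (hM : Cfsg.IsPModular p M) {j : MonoidAlgebra (Residue hM) G}
    (hj : LocalIdem hM P c j) {Q : Subgroup G} (hQP : Q ≤ P) :
    trunc (Subgroup.centralizer (Q : Set G)) j ≠ 0 := fun h => hj.ne (by
  rw [← trunc_trunc (H82.centralizer_mono hQP) j, h, trunc_zero])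

theorem trunc_centralizer_idem (hM : Cfsg.IsPModular p M) {j : MonoidAlgebra (Residue hM) G}
    (hP : IsPGroup p P) (hj : LocalIdem hM P c j) {Q : Subgroup G} (hQP : Q ≤ P) :
    trunc (Subgroup.centralizer (Q : Set G)) j * trunc (Subgroup.centralizer (Q : Set G)) j =
      trunc (Subgroup.centralizer (Q : Set G)) j := by
  have hji : InvBy P j := hj.prim.1
  rw [← trunc_mul (residue_p_eq_zero hM) (hP.to_le hQP) (hji.mono hQP) (hji.mono hQP), hj.prim.2.1]

/-- The integer of the idempotent at a subgroup is `r`. -/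
def IsVal (hM : Cfsg.IsPModular p M) (j : MonoidAlgebra (Residue hM) G) (Q : Subgroup G) (r : ℕ) :
    Prop :=
  r ≠ 0 ∧ ∀ [Fintype (Subgroup.centralizer (Q : Set G))]
    (w : MonoidAlgebra ℂ (Subgroup.centralizer (Q : Set G))), w * w = w → IsIntElt M w →
    incl (Subgroup.centralizer (Q : Set G)) (red hM w) =
      trunc (Subgroup.centralizer (Q : Set G)) j →
    ∀ η : Cfsg.IrrCharacter (Subgroup.centralizer (Q : Set G)),
      chiLin (η : _ → ℂ) w = 0 ∨ chiLin (η : _ → ℂ) w = (r : ℂ)

open scoped Classical in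
/-- The integer of the idempotent at a subgroup. -/
noncomputable def rVal (hM : Cfsg.IsPModular p M) (j : MonoidAlgebra (Residue hM) G)
    (Q : Subgroup G) : ℕ :=
  if h : ∃ r, IsVal hM j Q r then h.choose else 0

variable {hM : Cfsg.IsPModular p M} (hmax : Cfsg.IsMaximalBrauerPair p M B P c)
  (hab : ∀ x ∈ P, ∀ y ∈ P, x * y = y * x) (hfree : FreeAct P c)
  {j : MonoidAlgebra (Residue hM) G} (hj : LocalIdem hM P c j)

include hmax hab hfree hj in
/-- A lift at `Q` has the value `rVal` on the pair below and zero elsewhere. -/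
theorem exists_val {Q : Subgroup G} (hQ : Q ≠ ⊥)
    {f : Set (Cfsg.IrrCharacter (Subgroup.centralizer (Q : Set G)))}
    (hle : Cfsg.SubpairLE p M Q f P c) [hfQ : Fintype (Subgroup.centralizer (Q : Set G))] :
    IsVal hM j Q (rVal hM j Q) ∧
      ∃ w : MonoidAlgebra ℂ (Subgroup.centralizer (Q : Set G)), w * w = w ∧ IsIntElt M w ∧
        incl _ (red hM w) = trunc (Subgroup.centralizer (Q : Set G)) j ∧
        (∀ η ∈ f, chiLin (η : _ → ℂ) w = (rVal hM j Q : ℂ)) ∧
        ∀ η, η ∉ f → chiLin (η : _ → ℂ) w = 0 := by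
  classical
  have hQP := H82.le_of_subpairLE hle
  have hP := hmax.1.1.1
  have hf := (H82.isBrauerPair_of_subpairLE hle hmax.1.1).2
  have hreg := (regConst_below hM hmax hab hfree hQ hle).1
  have htf := trunc_mul_ebar_below hP hj.prim hj.ne hmax.1.1.2 hj.mem Q f hle
  obtain ⟨w, hw, hwi, hwr, hw0⟩ := exists_block_idem hM _ (suppIn_trunc _ j)
    (trunc_centralizer_idem hM hP hj hQP) hf htf
  have hwne : w ≠ 0 := fun h => trunc_centralizer_ne_zero hM hj hQP (by
    rw [← hwr, h, red_zero', map_zero])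
  obtain ⟨η₀, hη₀⟩ := exists_value_ne_zero hw hwne
  have hη₀f : η₀ ∈ f := by_contra fun h => hη₀ (hw0 η₀ h)
  obtain ⟨r, hr⟩ := Decomp.exists_nat_chiLin hw η₀
  have hval : ∀ η ∈ f, chiLin (η : _ → ℂ) w = (r : ℂ) := fun η hη => by
    rw [chiLin_eq_of_regConst hM hreg hw hwi hη hη₀f, hr]
  have hIs : IsVal hM j Q r := by
    refine ⟨fun h => hη₀ (by rw [hr, h, Nat.cast_zero]), @fun inst w' hw' hwi' hwr' η => ?_⟩
    obtain rfl := Subsingleton.elim hfQ inst
    rw [chiLin_eq_of_red hM hw' hwi' hw hwi (incl_injective _ (hwr'.trans hwr.symm))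
      (IsIrr.isClassFunction η.2)]
    by_cases hη : η ∈ f
    · exact Or.inr (hval η hη)
    · exact Or.inl (hw0 η hη)
  have hex : ∃ r, IsVal hM j Q r := ⟨r, hIs⟩
  have hspec : IsVal hM j Q (rVal hM j Q) := by
    rw [rVal, dif_pos hex]; exact hex.choose_spec
  have heq : rVal hM j Q = r := by
    rcases hspec.2 w hw hwi hwr η₀ with h | h
    · exact absurd h hη₀
    · exact_mod_cast h.symm.trans hr
  exact ⟨hspec, w, hw, hwi, hwr, fun η hη => by rw [hval η hη, heq], hw0⟩

set_option maxHeartbeats 800000 in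
include hmax hab hfree hj in
/-- The value at the defect group. -/
theorem rVal_top (hP1 : P ≠ ⊥) : rVal hM j P = 1 := by
  classical
  cases nonempty_fintype (Subgroup.centralizer (P : Set G))
  obtain ⟨-, w, hw, hwi, hwr, hval, -⟩ := exists_val hmax hab hfree hj hP1
    (f := c) Relation.ReflTransGen.refl
  have hP := hmax.1.1.1
  have hprim : IsPrim (⊤ : Subalgebra (Residue hM) (MonoidAlgebra (Residue hM) (Subgroup.centralizer (P : Set G)))) (red hM w) := by
    refine ⟨Algebra.mem_top, ?_, fun h => hj.ne ?_, fun e he hee => ?_⟩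
    · rw [← red_mul hM hwi hwi, hw]
    · rw [← hwr, h, map_zero]
    · rcases trunc_eq_of_corner hM hP le_rfl hj.prim (suppIn_incl (Subgroup.centralizer (P : Set G)) e) (suppIn_incl (Subgroup.centralizer (P : Set G)) e).invBy
        (by rw [← map_mul, hee]) (by rw [← hwr, ← map_mul, he.2.1])
        (by rw [← hwr, ← map_mul, he.2.2]) with h | h
      · exact Or.inl (incl_injective (Subgroup.centralizer (P : Set G)) (h.trans (map_zero _).symm))
      · exact Or.inr (incl_injective (Subgroup.centralizer (P : Set G)) (h.trans hwr.symm))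
  have htf : red hM w * red hM (blockElem c) = red hM w := by
    refine incl_injective (Subgroup.centralizer (P : Set G)) ?_
    rw [map_mul, hwr, ← ebar_eq_incl, hj.mem]
  obtain ⟨ψ, hψ⟩ := isPBlock_nonempty hM hmax.1.1.2
  have h := chiLin_prim_eq_one hM hmax.1.1.2
    (regConst_below hM hmax hab hfree hP1 Relation.ReflTransGen.refl).1 hprim htf hw hwi rfl hψ
  rw [hval ψ hψ] at h
  exact_mod_cast h

/-- The value of `χ` at `v` times the idempotent. -/
noncomputable def Fval (hM : Cfsg.IsPModular p M) (j : MonoidAlgebra (Residue hM) G)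
    (χ : Cfsg.IrrCharacter G) (v : G) : ℂ :=
  starVal hM (χ : G → ℂ) v (trunc (cen v) j)

include hmax hj in
/-- The values come from one lift. -/
theorem exists_lift_Fval :
    ∃ E : MonoidAlgebra ℂ G, E * E = E ∧ IsIntElt M E ∧ InvBy P E ∧ red hM E = j ∧
      ∀ (χ : Cfsg.IrrCharacter G) (v : G), v ∈ P →
        Fval hM j χ v = chiLin (χ : G → ℂ) (single v 1 * E) := by
  obtain ⟨E, hE, hEi, hEr, -, hEP⟩ := exists_idem_lift hM hj.prim.2.1
  refine ⟨E, hE, hEi, hEP P hj.prim.1, hEr, fun χ v hv => ?_⟩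
  obtain ⟨k, hk⟩ := exists_orderOf_of_mem hmax.1.1.1 hv
  exact starVal_eq hM (IsIrr.isClassFunction χ.2) hk
    ⟨hE, hEi, (hEP P hj.prim.1).mono (Subgroup.zpowers_le.2 hv), by rw [hEr]⟩

include hmax hj in
theorem isCharacter_Fval (χ : Cfsg.IrrCharacter G) :
    Cfsg.IsCharacter P (fun v : P => Fval hM j χ v) := by
  obtain ⟨E, hE, -, hEP, -, hF⟩ := exists_lift_Fval hmax hj
  rw [show (fun v : P => Fval hM j χ (v : G)) =
      fun v : P => chiLin (χ : G → ℂ) (single (v : G) 1 * E) from funext fun v => hF χ v v.2]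
  exact isCharacter_cut hE hEP

include hmax hab hfree hj in
/-- The value is the integer times the decomposition value. -/
theorem Fval_eq {v : G} (hv : v ∈ P) (hv1 : v ≠ 1) (χ : Cfsg.IrrCharacter G) :
    Fval hM j χ v = (rVal hM j (Subgroup.zpowers v) : ℂ) * Dval p M P c χ v := by
  classical
  cases nonempty_fintype (cen v)
  obtain ⟨E, hE, hEi, hEP, hEr, hF⟩ := exists_lift_Fval hmax hj
  obtain ⟨k, hk⟩ := exists_orderOf_of_mem hmax.1.1.1 hv
  obtain ⟨-, w, hw, hwi, hwr, hval, hw0⟩ := exists_val hmax hab hfree hj (by simpa using hv1)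
    (bAt_le hM hmax.1.1 hv)
  rw [hF χ v hv, chiLin_single_mul_block hM hk (aVal_spec v) hE hEi
    (hEP.mono (Subgroup.zpowers_le.2 hv)) hw hwi (hwr.trans (by rw [hEr])) χ, Dval_eq,
    Finset.mul_sum, Finset.sum_filter]
  refine Finset.sum_congr rfl fun ψ _ => ?_
  split_ifs with h
  · rw [hval ψ h, mul_comm]
  · rw [hw0 ψ h, mul_zero]

set_option maxHeartbeats 1000000 in
include hmax hab hfree hj in
/-- The values are invariant under the stabilizer. -/
theorem Fval_conj (hP1 : P ≠ ⊥) {t : G} (ht : t ∈ stab P c) {v : G} (hv : v ∈ P)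
    (χ : Cfsg.IrrCharacter G) : Fval hM j χ (t * v * t⁻¹) = Fval hM j χ v := by
  classical
  haveI := BlockAlgebra.isAlgClosed_residue hM
  haveI : Module.Finite (Residue hM) (MonoidAlgebra (Residue hM) G) :=
    Module.Finite.of_basis (MonoidAlgebra.basis G (Residue hM))
  cases nonempty_fintype (Subgroup.centralizer (P : Set G))
  have hR := residue_p_eq_zero hM
  have hP := hmax.1.1.1
  have hpair := mem_stab.1 ht
  have hmap : P.map (MulAut.conj t).toMonoidHom = P := congrArg Sigma.fst hpair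
  have hLmap : (Subgroup.centralizer (P : Set G)).map (MulAut.conj t).toMonoidHom = (Subgroup.centralizer (P : Set G)) := by
    rw [← H82.centralizer_map_conj, hmap]
  have hcjinv : ∀ (s : G), (∀ h ∈ P, s⁻¹ * h * s ∈ P) → ∀ z : MonoidAlgebra (Residue hM) G,
      InvBy P z → InvBy P (cj s z) := by
    intro s hs z hz h hh
    rw [← cj_mul_left, show h * s = s * (s⁻¹ * h * s) by group, cj_mul_left, hz _ (hs h hh)]
  have hts : ∀ h ∈ P, t⁻¹ * h * t ∈ P := fun h hh => by
    simpa using conj_mem_of_stab (c := c) ((stab P c).inv_mem ht) hh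
  have hts' : ∀ h ∈ P, t⁻¹⁻¹ * h * t⁻¹ ∈ P := fun h hh => by
    simpa using conj_mem_of_stab (c := c) ht hh
  set j' := cj t j with hj'
  have hji : InvBy P j := hj.prim.1
  have hj'prim : IsPrim (fixAlg (Residue hM) P) j' := by
    refine ⟨hcjinv t hts j hji, by rw [hj', ← map_mul, hj.prim.2.1], fun h => hj.prim.2.2.1 ?_,
      fun e he hee => ?_⟩
    · have := congrArg (cj t⁻¹) h
      rwa [hj', ← cj_mul_left, inv_mul_cancel, cj_one_apply, map_zero] at this
    · have hback : cj t⁻¹ j' = j := by rw [hj', ← cj_mul_left, inv_mul_cancel, cj_one_apply]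
      have hfor : ∀ z : MonoidAlgebra (Residue hM) G, cj t (cj t⁻¹ z) = z := fun z => by
        rw [← cj_mul_left, mul_inv_cancel, cj_one_apply]
      rcases hj.prim.2.2.2 (cj t⁻¹ e)
        ⟨hcjinv t⁻¹ hts' e he.1, by rw [← hback, ← map_mul, he.2.1],
          by rw [← hback, ← map_mul, he.2.2]⟩ (by rw [← map_mul, hee]) with h | h
      · left; rw [← hfor e, h, map_zero]
      · right; rw [← hfor e, h]
  have hcebar : cj t (ebar hM (Subgroup.centralizer (P : Set G)) c) = ebar hM (Subgroup.centralizer (P : Set G)) c := by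
    have h1 := congrArg
      (fun a : Cfsg.BrauerPairIdx G => H82.blockUp (Subgroup.centralizer (a.1 : Set G)) a.2) hpair
    have h2 := (cj_blockUp (p := p) P t c).symm.trans h1
    dsimp only at h2
    rw [ebar, ← red_cj, h2]
  have htr' : trunc (Subgroup.centralizer (P : Set G)) j' = cj t (trunc (Subgroup.centralizer (P : Set G)) j)  :=
    ((cj_trunc t _ j).trans (congrArg (fun S : Subgroup G => trunc S (cj t j)) hLmap)).symm
  have hmem' : trunc (Subgroup.centralizer (P : Set G)) j' * ebar hM (Subgroup.centralizer (P : Set G)) c = trunc (Subgroup.centralizer (P : Set G)) j' := by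
    conv_lhs => rw [htr', ← hcebar, ← map_mul, hj.mem]
    rw [htr']
  have hne' : trunc (Subgroup.centralizer (P : Set G)) j' ≠ 0 := fun h => hj.ne (by
    have := congrArg (cj t⁻¹) h
    rwa [htr', ← cj_mul_left, inv_mul_cancel, cj_one_apply, map_zero] at this)
  -- equivalence in the centralizer
  have hloc : ∀ i : MonoidAlgebra (Residue hM) G, IsPrim (fixAlg (Residue hM) P) i →
      trunc (Subgroup.centralizer (P : Set G)) i ≠ 0 → trunc (Subgroup.centralizer (P : Set G)) i * ebar hM (Subgroup.centralizer (P : Set G)) c = trunc (Subgroup.centralizer (P : Set G)) i →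
      ∃ t₀ : MonoidAlgebra (Residue hM) (Subgroup.centralizer (P : Set G)), incl (Subgroup.centralizer (P : Set G)) t₀ = trunc (Subgroup.centralizer (P : Set G)) i ∧
        IsPrim (⊤ : Subalgebra (Residue hM) (MonoidAlgebra (Residue hM) (Subgroup.centralizer (P : Set G)))) t₀ ∧
        t₀ * red hM (blockElem c) = t₀ := by
    intro i hi hne hmem
    obtain ⟨t₀, ht₀⟩ := exists_incl (suppIn_trunc (Subgroup.centralizer (P : Set G)) i)
    have hii : InvBy P i := hi.1
    have htt : trunc (Subgroup.centralizer (P : Set G)) i * trunc (Subgroup.centralizer (P : Set G)) i = trunc (Subgroup.centralizer (P : Set G)) i := by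
      rw [← trunc_mul hR hP hii hii, hi.2.1]
    refine ⟨t₀, ht₀, ⟨Algebra.mem_top, incl_injective (Subgroup.centralizer (P : Set G)) (by rw [map_mul, ht₀, htt]),
      fun h => hne (by rw [← ht₀, h, map_zero]), fun e he hee => ?_⟩,
      incl_injective (Subgroup.centralizer (P : Set G)) (by rw [map_mul, ht₀, ← ebar_eq_incl, hmem])⟩
    rcases trunc_eq_of_corner hM hP le_rfl hi (suppIn_incl (Subgroup.centralizer (P : Set G)) e) (suppIn_incl (Subgroup.centralizer (P : Set G)) e).invBy
      (by rw [← map_mul, hee]) (by rw [← ht₀, ← map_mul, he.2.1])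
      (by rw [← ht₀, ← map_mul, he.2.2]) with h | h
    · exact Or.inl (incl_injective (Subgroup.centralizer (P : Set G)) (h.trans (map_zero _).symm))
    · exact Or.inr (incl_injective (Subgroup.centralizer (P : Set G)) (h.trans ht₀.symm))
  obtain ⟨s, hs, hsp, hsc⟩ := hloc j hj.prim hj.ne hj.mem
  obtain ⟨s', hs', hsp', hsc'⟩ := hloc j' hj'prim hne' hmem'
  obtain ⟨a, b, hab', hba'⟩ := exists_equiv_prim hM hmax.1.1.2
    (regConst_below hM hmax hab hfree hP1 Relation.ReflTransGen.refl).1 hsp hsc hsp' hsc'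
  have hai : InvBy P (incl (Subgroup.centralizer (P : Set G)) a) := (suppIn_incl (Subgroup.centralizer (P : Set G)) a).invBy
  have hbi : InvBy P (incl (Subgroup.centralizer (P : Set G)) b) := (suppIn_incl (Subgroup.centralizer (P : Set G)) b).invBy
  have hj'i : InvBy P j' := hj'prim.1
  set x := j * incl (Subgroup.centralizer (P : Set G)) a * j' with hx
  set y := j' * incl (Subgroup.centralizer (P : Set G)) b * j with hy
  have hxi : InvBy P x := (hji.mul hai).mul hj'i
  have hyi : InvBy P y := (hj'i.mul hbi).mul hji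
  have htxy : trunc (Subgroup.centralizer (P : Set G)) (x * y) = trunc (Subgroup.centralizer (P : Set G)) j := by
    rw [trunc_mul hR hP hxi hyi, hx, hy, trunc_mul hR hP (hji.mul hai) hj'i,
      trunc_mul hR hP hji hai, trunc_mul hR hP (hj'i.mul hbi) hji, trunc_mul hR hP hj'i hbi,
      trunc_of_suppIn (suppIn_incl _ a), trunc_of_suppIn (suppIn_incl _ b), ← hs, ← hs',
      ← map_mul, ← map_mul, ← map_mul, ← map_mul, ← map_mul]
    congr 1
    rw [← hba']
    calc s * a * (b * a) * (b * a * b * s) = s * (a * b * (a * b) * (a * b)) * s := by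
          simp only [mul_assoc]
      _ = s := by rw [hab', hsp.2.1, hsp.2.1, hsp.2.1, hsp.2.1]
  have hnn : ¬ IsNilpotent (x * y) := by
    rintro ⟨n, hn⟩
    have hpow : ∀ m : ℕ, trunc (Subgroup.centralizer (P : Set G)) ((x * y) ^ (m + 1)) = trunc (Subgroup.centralizer (P : Set G)) j ∧ InvBy P ((x * y) ^ (m + 1)) := by
      intro m
      induction m with
      | zero => rw [pow_one]; exact ⟨htxy, hxi.mul hyi⟩
      | succ m ih =>
        rw [pow_succ]
        refine ⟨?_, ih.2.mul (hxi.mul hyi)⟩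
        rw [trunc_mul hR hP ih.2 (hxi.mul hyi), ih.1, htxy,
          ← trunc_mul hR hP hji hji, hj.prim.2.1]
    have h := (hpow n).1
    rw [pow_succ, hn, zero_mul, trunc_zero] at h
    exact hj.ne h.symm
  obtain ⟨A, A', hA, hA', hAA, hA'A⟩ := (scal_swap (k := Residue hM) hj.prim hj'prim
    (a := x) (b := y) hxi hyi (by simp only [hx, ← mul_assoc, hj.prim.2.1])
    (by simp only [hx, mul_assoc, hj'prim.2.1]) (by simp only [hy, ← mul_assoc, hj'prim.2.1])
    (by simp only [hy, mul_assoc, hj.prim.2.1])).2 hnn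
  -- transport
  have hv' : t * v * t⁻¹ ∈ P := conj_mem_of_stab ht hv
  obtain ⟨k, hk⟩ := exists_orderOf_of_mem hP hv
  obtain ⟨k', hk'⟩ := exists_orderOf_of_mem hP hv'
  have hcl := IsIrr.isClassFunction χ.2
  have hmid : starVal hM (χ : G → ℂ) (t * v * t⁻¹) (trunc (cen (t * v * t⁻¹)) j') =
      starVal hM (χ : G → ℂ) (t * v * t⁻¹) (trunc (cen (t * v * t⁻¹)) j) := by
    rw [← hAA, ← hA'A, trunc_cen_mul hP hv' hA hA', trunc_cen_mul hP hv' hA' hA]
    refine starVal_equiv hM hcl hk' (suppIn_trunc _ _) (suppIn_trunc _ _) ?_ ?_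
    · rw [← trunc_cen_mul hP hv' hA' hA, ← trunc_cen_mul hP hv' (InvBy.mul hA' hA) (InvBy.mul hA' hA),
        hA'A, hj'prim.2.1]
    · rw [← trunc_cen_mul hP hv' hA hA', ← trunc_cen_mul hP hv' (InvBy.mul hA hA') (InvBy.mul hA hA'),
        hAA, hj.prim.2.1]
  rw [Fval, ← hmid, hj', ← map_cen, ← cj_trunc,
    starVal_cj hM hcl hk t ?_ (suppIn_trunc _ j), Fval]
  rw [← trunc_cen_mul hP hv hji hji, hj.prim.2.1]

end Cfsg.Agent.H80.PuigUsami
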