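import Cfsg.Agent.H80.PuigUsami.Main
import Mathlib.GroupTheory.SpecificGroups.Cyclic
import Mathlib.GroupTheory.Perm.Cycle.Type

/-!
Inertial quotients of blocks with homocyclic defect groups of rank two for the prime two.
-/

set_option linter.style.haveILetI false

namespace Cfsg.Agent.H80.PuigUsami

open Watanabe

universe u

section Aut

variable {A : Type*} [CommGroup A] [Fintype A] [DecidableEq A]

/-- An automorphism of odd order fixing the involutions of an abelian two-group is trivial. -/
theorem eq_one_of_fix_involutions (hA : IsPGroup 2 A) {a : MulAut A} {n : ℕ} (hn : Odd n)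
    (ha : a ^ n = 1) (hfix : ∀ x : A, x ^ 2 = 1 → a x = x) : a = 1 := by
  have key : ∀ (k : ℕ) (x : A), x ^ 2 ^ k = 1 → a x = x := by
    intro k
    induction k with
    | zero => intro x hx; rw [pow_zero, pow_one] at hx; simp [hx]
    | succ k ih =>
      intro x hx
      have h2 : a (x ^ 2) = x ^ 2 := ih _ (by rw [← pow_mul, ← pow_succ']; exact hx)
      set z := a x * x⁻¹ with hz
      have hz2 : z ^ 2 = 1 := by rw [hz, mul_pow, inv_pow, ← map_pow, h2, mul_inv_cancel]
      have haz := hfix z hz2
      have hiter : ∀ i : ℕ, (a ^ i) x = z ^ i * x := by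
        intro i
        induction i with
        | zero => simp
        | succ i ih =>
          rw [pow_succ', MulAut.mul_apply, ih, map_mul, map_pow, haz, pow_succ, mul_assoc, hz]
          simp
      have h3 := hiter n
      obtain ⟨j, rfl⟩ := hn
      rw [ha, pow_succ, pow_mul, hz2, one_pow, one_mul] at h3
      simp only [MulAut.one_apply] at h3
      have hz1 : z = 1 := mul_eq_right.1 h3.symm
      rwa [hz, mul_inv_eq_one] at hz1
  refine MulEquiv.ext fun x => ?_
  obtain ⟨k, hk⟩ := hA x
  exact key k x hk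

/-- With at most three involutions, an automorphism of odd order fixing a point is trivial. -/
theorem eq_one_of_fix_point (hA : IsPGroup 2 A)
    (h4 : (Finset.univ.filter fun x : A => x ^ 2 = 1).card ≤ 4) {a : MulAut A} {n : ℕ}
    (hn : Odd n) (ha : a ^ n = 1) {v : A} (hv1 : v ≠ 1) (hav : a v = v) : a = 1 := by
  refine eq_one_of_fix_involutions hA hn ha fun x hx => ?_
  obtain ⟨k, hk⟩ := hA v
  obtain ⟨w, hw2, hw1, haw⟩ : ∃ w : A, w ^ 2 = 1 ∧ w ≠ 1 ∧ a w = w := by
    classical
    have hex : ∃ k, v ^ 2 ^ k = 1 := ⟨k, hk⟩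
    obtain ⟨l, hl⟩ : ∃ l, Nat.find hex = l + 1 := Nat.exists_eq_succ_of_ne_zero fun h0 => hv1 (by
      have h := Nat.find_spec hex
      rwa [h0, pow_zero, pow_one] at h)
    refine ⟨v ^ 2 ^ l, ?_, Nat.find_min hex (by omega), by rw [map_pow, hav]⟩
    rw [← pow_mul, ← pow_succ, ← hl]
    exact Nat.find_spec hex
  by_contra hne
  set S := ((Finset.univ.filter fun x : A => x ^ 2 = 1).erase 1).erase w with hS
  have hcard : S.card ≤ 2 := by
    have e1 := Finset.card_erase_of_mem (s := (Finset.univ.filter fun x : A => x ^ 2 = 1).erase 1)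
      (a := w) (by simp [hw1, hw2])
    have e2 := Finset.card_erase_of_mem (s := Finset.univ.filter fun x : A => x ^ 2 = 1)
      (a := (1 : A)) (by simp)
    rw [hS]
    omega
  have hmem : ∀ y, y ^ 2 = 1 → y ≠ 1 → y ≠ w → y ∈ S := fun y h1 h2 h3 => by simp [hS, h1, h2, h3]
  have hx1 : x ≠ 1 := fun h => hne (by rw [h, map_one])
  have hxw : x ≠ w := fun h => hne (by rw [h, haw])
  have ha1 : a x ^ 2 = 1 := by rw [← map_pow, hx, map_one]
  have hax1 : a x ≠ 1 := fun h => hx1 ((map_eq_one_iff a a.injective).1 h)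
  have haxw : a x ≠ w := fun h => hxw (a.injective (h.trans haw.symm))
  have haa : a (a x) = x := by
    by_contra h
    have hsub : ({x, a x, a (a x)} : Finset A) ⊆ S := by
      intro y hy
      simp only [Finset.mem_insert, Finset.mem_singleton] at hy
      rcases hy with rfl | rfl | rfl
      · exact hmem _ hx hx1 hxw
      · exact hmem _ ha1 hax1 haxw
      · refine hmem _ (by rw [← map_pow, ha1, map_one]) (fun h1 => hax1
          ((map_eq_one_iff a a.injective).1 h1)) fun h1 => haxw (a.injective (h1.trans haw.symm))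
    have hc := (Finset.card_le_card hsub).trans hcard
    rw [Finset.card_eq_three.2 ⟨x, a x, a (a x), Ne.symm hne, Ne.symm h,
      fun h1 => hne (a.injective h1).symm, rfl⟩] at hc
    omega
  have hiter : ∀ j : ℕ, (a ^ (2 * j)) x = x := by
    intro j
    induction j with
    | zero => simp
    | succ j ih => rw [mul_add, pow_add, MulAut.mul_apply, pow_two, MulAut.mul_apply, haa, ih]
  obtain ⟨j, rfl⟩ := hn
  have := DFunLike.congr_fun ha x
  rw [pow_succ', MulAut.mul_apply, hiter, MulAut.one_apply] at this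
  exact hne this

/-- A group of such automorphisms has order at most three. -/
theorem card_le_three (hA : IsPGroup 2 A) (hA1 : Nontrivial A)
    (h4 : (Finset.univ.filter fun x : A => x ^ 2 = 1).card ≤ 4) (R : Subgroup (MulAut A))
    (hR : Odd (Nat.card R)) : Nat.card R ≤ 3 := by
  obtain ⟨v, hv1⟩ := exists_ne (1 : A)
  have hfin : Fintype R := Fintype.ofFinite _
  obtain ⟨w, hw⟩ := exists_prime_orderOf_dvd_card' 2 (show 2 ∣ Nat.card A by
    obtain ⟨k, hk⟩ := IsPGroup.iff_card.1 hA
    refine hk ▸ dvd_pow_self 2 fun h0 => ?_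
    rw [h0, pow_zero] at hk
    exact hv1 ((Nat.card_eq_one_iff_unique.1 hk).1.elim v 1))
  have hw1 : w ≠ 1 := fun h => by rw [h, orderOf_one] at hw; omega
  have hw2 : w ^ 2 = 1 := hw ▸ pow_orderOf_eq_one w
  rw [Nat.card_eq_fintype_card, ← Finset.card_univ]
  refine (Finset.card_le_card_of_injOn (fun r : R => (r : MulAut A) w)
    (t := (Finset.univ.filter fun x : A => x ^ 2 = 1).erase 1) (fun r _ => ?_) ?_).trans ?_
  · refine Finset.mem_erase.2 ⟨fun h => hw1 ((map_eq_one_iff _ (r : MulAut A).injective).1 h),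
      Finset.mem_filter.2 ⟨Finset.mem_univ _, by rw [← map_pow, hw2, map_one]⟩⟩
  · intro r _ s _ hrs
    have h : ((s⁻¹ * r : R) : MulAut A) = 1 := by
      refine eq_one_of_fix_point hA h4 hR ?_ hw1 ?_
      · rw [← Subgroup.coe_pow, pow_card_eq_one', Subgroup.coe_one]
      · rw [Subgroup.coe_mul, MulAut.mul_apply, show (r : MulAut A) w = (s : MulAut A) w from hrs,
          ← MulAut.mul_apply, ← Subgroup.coe_mul, inv_mul_cancel, Subgroup.coe_one, MulAut.one_apply]
    have h' : s⁻¹ * r = 1 := Subtype.ext h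
    exact (inv_mul_eq_one.1 h').symm
  · rw [Finset.card_erase_of_mem (by simp)]
    omega

end Aut

variable {G : Type u} [Group G] [Fintype G] {M : Ideal Cfsg.AlgInt}
  {B : Set (Cfsg.IrrCharacter G)} {P : Subgroup G}
  {c : Set (Cfsg.IrrCharacter (Subgroup.centralizer (P : Set G)))}

/-- The inertial action is free and the index is one or three. -/
theorem free_of_four (hM : Cfsg.IsPModular 2 M) (hmax : Cfsg.IsMaximalBrauerPair 2 M B P c)
    (hab : ∀ x ∈ P, ∀ y ∈ P, x * y = y * x) (hP1 : P ≠ ⊥) [DecidableEq P] [Fintype P]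
    (h4 : (Finset.univ.filter fun x : P => x ^ 2 = 1).card ≤ 4) :
    FreeAct P c ∧ ((Subgroup.centralizer (P : Set G)).relIndex (stab P c) = 1 ∨
      (Subgroup.centralizer (P : Set G)).relIndex (stab P c) = 3) := by
  letI : CommGroup P :=
    { (inferInstance : Group P) with mul_comm := fun x y => Subtype.ext (hab _ x.2 _ y.2) }
  have hker : (conjT P c).ker = (Subgroup.centralizer (P : Set G)).subgroupOf (stab P c) := by
    ext t
    rw [MonoidHom.mem_ker, Subgroup.mem_subgroupOf, Subgroup.mem_centralizer_iff]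
    constructor
    · intro h v hv
      have h1 := congrArg Subtype.val (DFunLike.congr_fun h (⟨v, hv⟩ : P))
      exact (mul_inv_eq_iff_eq_mul.1 h1).symm
    · intro h
      refine MulEquiv.ext fun v => Subtype.ext ?_
      rw [coe_conjT, MulAut.one_apply, ← h v v.2, mul_inv_cancel_right]
  set e := (Subgroup.centralizer (P : Set G)).relIndex (stab P c) with he
  have hcard : Nat.card (conjT P c).range = e := by
    rw [he, Subgroup.relIndex, ← hker, Subgroup.index_ker]
  have hCT : Subgroup.centralizer (P : Set G) ≤ stab P c :=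
    H82.centralizer_le_stab hM hmax.1.1.2 fun g =>
      (H82.stabilizesBlock_iff_conjPair hM hmax.1.1.2).symm
  have hodd : Odd e := Nat.odd_iff.2 (Nat.two_dvd_ne_zero.1
    (not_dvd_index_stab hM hmax hab le_rfl hCT))
  refine ⟨fun t ht v hv hv1 hfix => ?_, ?_⟩
  · have h := eq_one_of_fix_point hmax.1.1.1 h4 (a := conjT P c ⟨t, ht⟩) (n := e) hodd ?_
      (v := ⟨v, hv⟩) (fun h1 => hv1 (congrArg Subtype.val h1)) (Subtype.ext hfix)
    · have h1 : (⟨t, ht⟩ : stab P c) ∈ (conjT P c).ker := h
      rwa [hker] at h1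
    · have h1 := congrArg Subtype.val
        (pow_card_eq_one' (x := (⟨_, ⟨t, ht⟩, rfl⟩ : (conjT P c).range)))
      rwa [hcard] at h1
  · have hnt : Nontrivial P := (Subgroup.nontrivial_iff_ne_bot P).2 hP1
    have h3 := card_le_three hmax.1.1.1 hnt h4 (conjT P c).range (hcard ▸ hodd)
    rw [hcard] at h3
    obtain ⟨j, hj⟩ := hodd
    omega

end Cfsg.Agent.H80.PuigUsami
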