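import Cfsg.Agent.H80.PuigUsami.RVal
import Cfsg.Agent.H82.StarMarks

/-!
The signs: the integers of the local idempotent, normalized, form a generalized character of the
defect group off the identity.
-/

set_option linter.style.haveILetI false

open scoped ComplexConjugate

namespace Cfsg.Agent.H80.PuigUsami

open H83 H83.Star MonoidAlgebra BlockBasic CharBasic Watanabe

universe u

variable {p : ℕ} [hp : Fact p.Prime] {M : Ideal Cfsg.AlgInt} {G : Type u} [Group G] [Fintype G]
  {B : Set (Cfsg.IrrCharacter G)} {P : Subgroup G}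
  {c : Set (Cfsg.IrrCharacter (Subgroup.centralizer (P : Set G)))}

omit hp in
theorem cj_incl {R : Type*} [CommRing R] (K : Subgroup G) (h : K) (z : MonoidAlgebra R K) :
    cj (h : G) (incl K z) = incl K (cj h z) := by
  rw [cj_eq_single, cj_eq_single, map_mul, map_mul]
  simp [incl]

omit hp in
theorem incl_trunc {R : Type*} [CommRing R] (K : Subgroup G) {L' : Subgroup K} {L : Subgroup G}
    (hL : ∀ k : K, k ∈ L' ↔ (k : G) ∈ L) (z : MonoidAlgebra R K) :
    incl K (trunc L' z) = trunc L (incl K z) := by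
  classical
  apply coeff_injective
  ext g
  by_cases hg : g ∈ K
  · rw [coeff_trunc, show g = ((⟨g, hg⟩ : K) : G) from rfl, coeff_incl, coeff_incl, coeff_trunc]
    exact if_congr (hL _) rfl rfl
  · rw [coeff_trunc, suppIn_incl K _ g hg, suppIn_incl K _ g hg, ite_self]

/-- The data of the pair inside the centralizer of a subgroup. -/
theorem exists_localData {hM : Cfsg.IsPModular p M} (hmax : Cfsg.IsMaximalBrauerPair p M B P c)
    (hab : ∀ x ∈ P, ∀ y ∈ P, x * y = y * x) (hfree : FreeAct P c)
    {j : MonoidAlgebra (Residue hM) G} (hj : LocalIdem hM P c j) {R : Subgroup G} (hR : R ≠ ⊥)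
    {f : Set (Cfsg.IrrCharacter (Subgroup.centralizer (R : Set G)))}
    (hle : Cfsg.SubpairLE p M R f P c) [Fintype (Subgroup.centralizer (R : Set G))] :
    ∃ (A : Subgroup (Subgroup.centralizer (R : Set G)))
      (k : Set (Cfsg.IrrCharacter (Subgroup.centralizer (A : Set (Subgroup.centralizer (R : Set G))))))
      (jK : MonoidAlgebra (Residue hM) (Subgroup.centralizer (R : Set G))),
      P = A.map (Subgroup.centralizer (R : Set G)).subtype ∧
      Cfsg.IsMaximalBrauerPair p M f A k ∧
      stab A k ≤ Subgroup.centralizer (A : Set (Subgroup.centralizer (R : Set G))) ∧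
      LocalIdem hM A k jK ∧
      incl (Subgroup.centralizer (R : Set G)) jK =
        trunc (Subgroup.centralizer (R : Set G)) j := by
  classical
  obtain ⟨⟨A, k⟩, hr, hA⟩ := exists_local hM hmax hab hle
  have hmap : P = A.map (Subgroup.centralizer (R : Set G)).subtype := hr.1
  have hP := hmax.1.1.1
  have hRP := H82.le_of_subpairLE hle
  obtain ⟨jK, hjK⟩ := exists_incl (suppIn_trunc (Subgroup.centralizer (R : Set G)) j)
  have hAP : ∀ a ∈ A, ((a : Subgroup.centralizer (R : Set G)) : G) ∈ P := fun a ha =>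
    hmap.ge ⟨a, ha, rfl⟩
  have hcent : ∀ x : Subgroup.centralizer (R : Set G),
      x ∈ Subgroup.centralizer (A : Set (Subgroup.centralizer (R : Set G))) ↔
        (x : G) ∈ Subgroup.centralizer (P : Set G) := by
    intro x
    constructor
    · intro hx
      refine Subgroup.mem_centralizer_iff.2 fun y hy => ?_
      obtain ⟨a, ha, rfl⟩ := hmap.le hy
      exact congrArg Subtype.val (Subgroup.mem_centralizer_iff.1 hx a ha)
    · intro hx
      exact Subgroup.mem_centralizer_iff.2 fun a ha =>
        Subtype.ext (Subgroup.mem_centralizer_iff.1 hx _ (hAP a ha))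
  have hji : InvBy P j := hj.prim.1
  have hjR : InvBy P (trunc (Subgroup.centralizer (R : Set G)) j) :=
    hji.trunc fun h hh => Subgroup.le_normalizer (le_centralizer_of_comm hab hRP le_rfl hh)
  have hjKi : InvBy A jK := fun a ha => incl_injective _ (by
    rw [← cj_incl, hjK, hjR _ (hAP a ha)])
  have hjK2 : jK * jK = jK := incl_injective _ (by
    rw [map_mul, hjK, trunc_centralizer_idem hM hP hj hRP])
  have htr : incl (Subgroup.centralizer (R : Set G))
      (trunc (Subgroup.centralizer (A : Set (Subgroup.centralizer (R : Set G)))) jK) =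
      trunc (Subgroup.centralizer (P : Set G)) j := by
    rw [incl_trunc _ hcent, hjK, trunc_trunc (H82.centralizer_mono hRP)]
  have hebar : incl (Subgroup.centralizer (R : Set G))
      (ebar hM (Subgroup.centralizer (A : Set (Subgroup.centralizer (R : Set G)))) k) =
      ebar hM (Subgroup.centralizer (P : Set G)) c := by
    apply coeff_injective
    ext g
    by_cases hg : g ∈ Subgroup.centralizer (R : Set G)
    · rw [show g = ((⟨g, hg⟩ : Subgroup.centralizer (R : Set G)) : G) from rfl, coeff_incl, ebar,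
        ebar, coeff_red, coeff_red, hr.2.2]
    · rw [suppIn_incl _ _ g hg, suppIn_ebar hM _ c g fun h =>
        hg (H82.centralizer_mono hRP h)]
  refine ⟨A, k, jK, hmap, hA, fun x hx => ?_, ⟨⟨hjKi, hjK2, fun h => ?_, fun e he hee => ?_⟩,
    fun h => hj.ne ?_, incl_injective _ ?_⟩, hjK⟩
  · have hxP := (H24.AbelianPair.conjPair_iff hr x).1 (mem_stab.1 hx)
    obtain ⟨q, hqR, hq1⟩ := (R.bot_or_exists_ne_one).resolve_left hR
    refine (hcent x).2 (hfree _ hxP q (hRP hqR) hq1 ?_)
    rw [← Subgroup.mem_centralizer_iff.1 x.2 q hqR, mul_inv_cancel_right]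
  · exact trunc_centralizer_ne_zero hM hj hRP (by rw [← hjK, h, map_zero])
  · have hei : InvBy P (incl (Subgroup.centralizer (R : Set G)) e) := by
      intro g hg
      obtain ⟨a, ha, rfl⟩ := hmap.le hg
      exact (cj_incl _ a e).trans (congrArg _ (he.1 a ha))
    rcases trunc_eq_of_corner hM hP hRP hj.prim (suppIn_incl _ e) hei (by rw [← map_mul, hee])
      (by rw [← hjK, ← map_mul, he.2.1]) (by rw [← hjK, ← map_mul, he.2.2]) with h | h
    · exact Or.inl (incl_injective _ (h.trans (map_zero _).symm))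
    · exact Or.inr (incl_injective _ (h.trans hjK.symm))
  · rw [← htr, h, map_zero]
  · rw [map_mul, htr, hebar, hj.mem]

/-- The integers do not depend on the group in which they are computed. -/
theorem rVal_local {hM : Cfsg.IsPModular p M} (hmax : Cfsg.IsMaximalBrauerPair p M B P c)
    (hab : ∀ x ∈ P, ∀ y ∈ P, x * y = y * x) (hfree : FreeAct P c)
    {j : MonoidAlgebra (Residue hM) G} (hj : LocalIdem hM P c j) {R : Subgroup G} (hR : R ≠ ⊥)
    (hRP : R ≤ P) [Fintype (Subgroup.centralizer (R : Set G))]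
    {f : Set (Cfsg.IrrCharacter (Subgroup.centralizer (R : Set G)))}
    {A : Subgroup (Subgroup.centralizer (R : Set G))}
    {k : Set (Cfsg.IrrCharacter (Subgroup.centralizer (A : Set (Subgroup.centralizer (R : Set G)))))}
    {jK : MonoidAlgebra (Residue hM) (Subgroup.centralizer (R : Set G))}
    (hmap : P = A.map (Subgroup.centralizer (R : Set G)).subtype)
    (hA : Cfsg.IsMaximalBrauerPair p M f A k)
    (hst : stab A k ≤ Subgroup.centralizer (A : Set (Subgroup.centralizer (R : Set G))))
    (hjA : LocalIdem hM A k jK)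
    (hjK : incl (Subgroup.centralizer (R : Set G)) jK = trunc (Subgroup.centralizer (R : Set G)) j)
    {x : Subgroup.centralizer (R : Set G)} (hx : x ∈ A) (hx1 : x ≠ 1) :
    rVal hM jK (Subgroup.zpowers x) = rVal hM j (R ⊔ Subgroup.zpowers (x : G)) := by
  classical
  have habA : ∀ a ∈ A, ∀ b ∈ A, a * b = b * a := fun a ha b hb => Subtype.ext
    (hab _ (hmap.ge ⟨a, ha, rfl⟩) _ (hmap.ge ⟨b, hb, rfl⟩))
  set S := R ⊔ Subgroup.zpowers (x : G) with hSdef
  have hSP : S ≤ P := sup_le hRP (Subgroup.zpowers_le.2 (hmap.ge ⟨x, hx, rfl⟩))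
  have hS : S ≠ ⊥ := fun h => hR (le_bot_iff.1 (h ▸ le_sup_left))
  cases nonempty_fintype (cen x)
  cases nonempty_fintype (Subgroup.centralizer (S : Set G))
  have hsub : (Subgroup.zpowers (x : G)).subgroupOf (Subgroup.centralizer (R : Set G)) =
      Subgroup.zpowers x := by
    rw [show (x : G) = (Subgroup.centralizer (R : Set G)).subtype x from rfl,
      ← MonoidHom.map_zpowers]
    exact Subgroup.comap_map_eq_self_of_injective (Subgroup.subtype_injective _) _
  have hC : Subgroup.centralizer (S : Set G) =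
      (Subgroup.centralizer ((Subgroup.zpowers x : Subgroup (Subgroup.centralizer (R : Set G))) :
        Set (Subgroup.centralizer (R : Set G)))).map (Subgroup.centralizer (R : Set G)).subtype := by
    have h := H82.centralizer_sup_eq_map (Q := R) (R := Subgroup.zpowers (x : G))
      (H := Subgroup.centralizer (R : Set G)) le_rfl
      (Subgroup.zpowers_le.2 x.2) (Or.inl le_rfl)
    rwa [hsub] at h
  set φ := H82.localCent hC with hφ
  obtain ⟨f', hf', hle'⟩ := H82.exists_subpair hM hA.1.1 (Subgroup.zpowers_le.2 hx)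
  obtain ⟨f'', hf'', hle''⟩ := H82.exists_subpair hM hmax.1.1 hSP
  obtain ⟨hIs', w', hw', hwi', hwr', hval', -⟩ :=
    exists_val hA habA (fun t ht _ _ _ _ => hst ht) hjA (by simpa using hx1) hle'
  obtain ⟨hIs, -⟩ := exists_val hmax hab hfree hj hS hle''
  set w'' := MonoidAlgebra.mapDomainRingHom ℂ φ.toMonoidHom w' with hw''
  have hcoeff : ∀ d, w''.coeff (φ d) = w'.coeff d := fun d =>
    Finsupp.mapDomain_apply φ.injective w'.coeff d
  have hi'' : IsIntElt M w'' := fun g => by
    obtain ⟨d, rfl⟩ := φ.surjective g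
    rw [hcoeff]
    exact hwi' d
  have hr'' : incl _ (red hM w'') = trunc (Subgroup.centralizer (S : Set G)) j := by
    apply coeff_injective
    ext g
    by_cases hg : g ∈ Subgroup.centralizer (S : Set G)
    · obtain ⟨d, hd⟩ := φ.surjective ⟨g, hg⟩
      have h1 : ((d : Subgroup.centralizer (R : Set G)) : G) = g := by
        rw [← H82.localCent_apply hC d, ← hφ, hd]
      have h2 := congrArg (fun z => z.coeff (d : Subgroup.centralizer (R : Set G))) hwr'
      skip
      rw [coeff_incl, coeff_red, coeff_trunc, if_pos d.2] at h2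
      rw [show g = ((⟨g, hg⟩ : Subgroup.centralizer (S : Set G)) : G) from rfl, coeff_incl,
        coeff_red, ← hd, hcoeff, h2, ← coeff_incl, hjK, coeff_trunc, coeff_trunc,
        H82.localCent_apply hC d]
      simp only [h1]
      rw [if_pos hg, if_pos (H82.centralizer_mono le_sup_left hg)]
    · rw [suppIn_incl _ _ g hg, suppIn_trunc _ _ g hg]
  obtain ⟨η, hη⟩ := isPBlock_nonempty hM hf'.2
  have key : chiLin (H83.irrComp φ.symm η : _ → ℂ) w'' = (rVal hM jK (Subgroup.zpowers x) : ℂ) := by
    rw [← hval' η hη, chiLin, chiLin]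
    refine (Fintype.sum_equiv φ.toEquiv _ _ fun d => ?_).symm
    rw [MulEquiv.toEquiv_eq_coe, MulEquiv.coe_toEquiv, hcoeff, H83.irrComp_apply,
      φ.symm_apply_apply]
  rcases hIs.2 w'' (by rw [hw'', ← map_mul, hw']) hi'' hr'' (H83.irrComp φ.symm η) with h | h
  · rw [key] at h
    exact absurd (by exact_mod_cast h) hIs'.1
  · rw [key] at h
    exact_mod_cast h

variable {hM : Cfsg.IsPModular p M} (hmax : Cfsg.IsMaximalBrauerPair p M B P c)
  (hab : ∀ x ∈ P, ∀ y ∈ P, x * y = y * x) (hfree : FreeAct P c)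
  {j : MonoidAlgebra (Residue hM) G} (hj : LocalIdem hM P c j)

include hmax hab hfree hj in
open scoped Classical in
/-- Inside the centralizer of `R`: a character of `P` with values the integers times units. -/
theorem exists_signed {R : Subgroup G} (hRP : R ≤ P) (hR : R ≠ ⊥) :
    ∃ F u : P → ℂ, Cfsg.IsCharacter P F ∧
      (∀ x : P, F x = (rVal hM j (R ⊔ Subgroup.zpowers (x : G)) : ℂ) * u x) ∧
      (∀ x, IsIntegral ℤ (u x)) ∧ ∀ x, u x * conj (u x) = 1 := by
  obtain ⟨f, hf, hle⟩ := H82.exists_subpair hM hmax.1.1 hRP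
  cases nonempty_fintype (Subgroup.centralizer (R : Set G))
  obtain ⟨A, k, jK, hmap, hA, hst, hjA, hjK⟩ := exists_localData hmax hab hfree hj hR hle
  have habA : ∀ a ∈ A, ∀ b ∈ A, a * b = b * a := fun a ha b hb => Subtype.ext
    (hab _ (hmap.ge ⟨a, ha, rfl⟩) _ (hmap.ge ⟨b, hb, rfl⟩))
  have hPR : P ≤ Subgroup.centralizer (R : Set G) := le_centralizer_of_comm hab hRP le_rfl
  let e : P →* A :=
    { toFun := fun x => ⟨⟨x, hPR x.2⟩, by
        obtain ⟨a, ha, hax⟩ := hmap.le x.2
        exact (show a = ⟨x, hPR x.2⟩ from Subtype.ext hax) ▸ ha⟩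
      map_one' := rfl
      map_mul' := fun _ _ => rfl }
  obtain ⟨ψ, hψ⟩ := isPBlock_nonempty hM hf.2
  refine ⟨fun x => Fval hM jK ψ ((e x : A) : Subgroup.centralizer (R : Set G)),
    fun x => if x = 1 then 1 else Dval p M A k ψ ((e x : A) : Subgroup.centralizer (R : Set G)),
    H86.isCharacter_comp (isCharacter_Fval hA hjA ψ) e, fun x => ?_, fun x => ?_, fun x => ?_⟩
  · dsimp only
    by_cases hx : x = 1
    · subst hx
      rw [if_pos rfl, mul_one, OneMemClass.coe_one, Subgroup.zpowers_one_eq_bot, sup_bot_eq,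
        map_one, OneMemClass.coe_one]
      obtain ⟨E, hE, hEi, -, hEr, hF⟩ := exists_lift_Fval hA hjA
      obtain ⟨-, w, hw, hwi, hwr, hval, -⟩ := exists_val hmax hab hfree hj hR hle
      rw [hF ψ 1 A.one_mem, ← one_def, one_mul, chiLin_eq_of_red hM hE hEi hw hwi
        (incl_injective _ (by rw [hEr, hjK, hwr])) (IsIrr.isClassFunction ψ.2), hval ψ hψ]
    · have hx1 : ((e x : A) : Subgroup.centralizer (R : Set G)) ≠ 1 := fun h =>
        hx (Subtype.ext (congrArg Subtype.val h :))
      rw [if_neg hx, Fval_eq hA habA (fun t ht _ _ _ _ => hst ht) hjA (e x).2 hx1,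
        rVal_local hmax hab hfree hj hR hRP hmap hA hst hjA hjK (e x).2 hx1]
      rfl
  · dsimp only
    split_ifs
    · exact isIntegral_one
    · exact isIntegral_Dval ψ _
  · dsimp only
    split_ifs with hx
    · simp
    · exact norm_Dval_eq_one hM hA habA hst (e x).2
        (fun h => hx (Subtype.ext (congrArg Subtype.val h :))) hψ

include hmax hab hfree hj in
/-- The integers are congruent to `±1`. -/
theorem rVal_congr : ∀ R : Subgroup G, R ≤ P → R ≠ ⊥ →
    modP p ∣ (rVal hM j R : ℤ) - 1 ∨ modP p ∣ (rVal hM j R : ℤ) + 1 := by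
  classical
  intro R
  induction hn : Nat.card P - Nat.card R using Nat.strong_induction_on generalizing R with
  | _ n ih =>
    intro hRP hR
    rcases hRP.lt_or_eq with hlt | rfl
    swap
    · left
      simp [rVal_top hmax hab hfree hj hR]
    -- the subgroups above
    have hup : ∀ x : P, (x : G) ∉ R → modP p ∣ (rVal hM j (R ⊔ Subgroup.zpowers (x : G)) : ℤ) - 1 ∨
        modP p ∣ (rVal hM j (R ⊔ Subgroup.zpowers (x : G)) : ℤ) + 1 := by
      intro x hx
      have hle : R ⊔ Subgroup.zpowers (x : G) ≤ P := sup_le hRP (Subgroup.zpowers_le.2 x.2)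
      have hlt' : R < R ⊔ Subgroup.zpowers (x : G) := lt_of_le_of_ne le_sup_left fun h =>
        hx (h.ge (Subgroup.mem_sup_right (Subgroup.mem_zpowers _)))
      refine ih (Nat.card P - Nat.card (R ⊔ Subgroup.zpowers (x : G) : Subgroup G)) ?_ _ rfl hle
        fun h => hR (le_bot_iff.1 (h ▸ le_sup_left))
      have h1 : Nat.card R < Nat.card (R ⊔ Subgroup.zpowers (x : G) : Subgroup G) :=
        lt_of_le_of_ne (Subgroup.card_le_of_le hlt'.le)
          fun h => hlt'.ne (Subgroup.eq_of_le_of_card_ge hlt'.le h.ge)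
      have h2 := Subgroup.card_le_of_le hle
      omega
    have hmodp : (p : ℤ) ∣ modP p := by
      unfold modP
      split_ifs with h
      · rw [h]; norm_num
      · exact dvd_rfl
    have hunit : ∀ r : ℤ, modP p ∣ r - 1 ∨ modP p ∣ r + 1 → ¬ (p : ℤ) ∣ r := by
      intro r hr hdr
      have h1 : (p : ℤ) ∣ 1 := by
        rcases hr with h | h
        · have := dvd_sub hdr (hmodp.trans h); simpa using this
        · have := dvd_sub (hmodp.trans h) hdr; simpa using this
      exact hp.out.ne_one (Nat.dvd_one.1 (by exact_mod_cast h1))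
    obtain ⟨x₀, hx₀P, hx₀⟩ := SetLike.exists_of_lt hlt
    obtain ⟨F, u, hF, hFu, hu, hu1⟩ := exists_signed hmax hab hfree hj hRP hR
    have hF1 : F 1 = (rVal hM j R : ℂ) * u 1 := by
      rw [hFu, OneMemClass.coe_one, Subgroup.zpowers_one_eq_bot, sup_bot_eq]
    -- the bottom value is prime to `p`
    have hr0 : ¬ (p : ℤ) ∣ (rVal hM j R : ℤ) := by
      intro hd
      refine hunit _ (hup ⟨x₀, hx₀P⟩ hx₀) ((memLocalIdeal_intCast_iff hM _).1 ?_)
      have h1 := H85.memLocalIdeal_apply_sub_one hM hF
        (IsPGroup.iff_orderOf.1 hmax.1.1.1 ⟨x₀, hx₀P⟩)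
      have h2 : Cfsg.MemLocalIdeal M (F 1) := by
        rw [hF1, mul_comm]
        refine memLocalIdeal_mul hM (memLocalRing_of_isIntegral hM (hu 1)) ?_
        have := (memLocalIdeal_intCast_iff hM _).2 hd
        simpa using this
      have h3 : Cfsg.MemLocalIdeal M (F ⟨x₀, hx₀P⟩) := by
        have := memLocalIdeal_add hM h1 h2
        rwa [sub_add_cancel] at this
      have h4 := memLocalIdeal_mul hM (memLocalRing_of_isIntegral hM
        ((hu ⟨x₀, hx₀P⟩).map (starRingEnd ℂ).toIntAlgHom)) h3
      rw [hFu] at h4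
      have h5 : ∀ (a b : ℂ), (starRingEnd ℂ).toIntAlgHom a * (b * a) =
          b * (a * conj a) := fun a b => by
        show conj a * (b * a) = _
        ring
      rw [h5, hu1, mul_one] at h4
      simpa using h4
    letI : CommGroup P :=
      { (inferInstance : Group P) with mul_comm := fun x y => Subtype.ext (hab _ x.2 _ y.2) }
    obtain ⟨Z, -, hZr, hZc⟩ := exists_normal_form hM hmax.1.1.1 hF
      (fun x => (rVal hM j (R ⊔ Subgroup.zpowers (x : G)) : ℤ)) u
      (fun x => by rw [hFu]; norm_num) hu hu1 (fun x => by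
        by_cases hx : (x : G) ∈ R
        · rwa [sup_eq_left.2 (Subgroup.zpowers_le.2 hx)]
        · exact hunit _ (hup x hx))
    have h1 := hZr 1
    rw [show R ⊔ Subgroup.zpowers ((1 : P) : G) = R by
      rw [OneMemClass.coe_one, Subgroup.zpowers_one_eq_bot, sup_bot_eq]] at h1
    have h2 := hZr ⟨x₀, hx₀P⟩
    have h3 := hup ⟨x₀, hx₀P⟩ hx₀
    have h4 := hZc ⟨x₀, hx₀P⟩
    generalize Z 1 = z at h1 h4
    generalize Z ⟨x₀, hx₀P⟩ = y at h2 h4
    generalize (rVal hM j (R ⊔ Subgroup.zpowers (((⟨x₀, hx₀P⟩ : P) : G))) : ℤ) = s at h2 h3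
    generalize (rVal hM j R : ℤ) = r at h1
    obtain ⟨a, ha⟩ := h4
    rcases h1 with rfl | rfl <;> rcases h2 with rfl | rfl <;> rcases h3 with ⟨b, hb⟩ | ⟨b, hb⟩ <;>
      first
        | (left; exact ⟨b - a, by linear_combination hb - ha⟩)
        | (right; exact ⟨b - a, by linear_combination hb - ha⟩)
        | (left; exact ⟨a + b, by linear_combination hb + ha⟩)
        | (right; exact ⟨a + b, by linear_combination hb + ha⟩)
        | (left; exact ⟨-a - b, by linear_combination -hb - ha⟩)
        | (right; exact ⟨-a - b, by linear_combination -hb - ha⟩)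
        | (left; exact ⟨a - b, by linear_combination ha - hb⟩)
        | (right; exact ⟨a - b, by linear_combination ha - hb⟩)

/-- The normalized integer. -/
noncomputable def hVal (hM : Cfsg.IsPModular p M) (j : MonoidAlgebra (Residue hM) G)
    (R : Subgroup G) : ℤ :=
  if modP p ∣ (rVal hM j R : ℤ) - 1 then (rVal hM j R : ℤ) else -(rVal hM j R : ℤ)

theorem hVal_eq (R : Subgroup G) :
    hVal hM j R = (rVal hM j R : ℤ) ∨ hVal hM j R = -(rVal hM j R : ℤ) := by
  rw [hVal]
  split_ifs <;> simp

omit hp in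
theorem not_modP_dvd_two (hp2 : 2 ≤ p) : ¬ modP p ∣ 2 := by
  unfold modP
  split_ifs with h
  · decide
  · intro hd
    have := Int.le_of_dvd two_pos hd
    omega

include hmax hab hfree hj in
theorem hVal_congr {R : Subgroup G} (hRP : R ≤ P) (hR : R ≠ ⊥) : modP p ∣ hVal hM j R - 1 := by
  rw [hVal]
  split_ifs with h
  · exact h
  · have := (rVal_congr hmax hab hfree hj R hRP hR).resolve_left h
    obtain ⟨k, hk⟩ := this
    exact ⟨-k, by linear_combination -hk⟩

include hmax hab hfree hj in
theorem not_dvd_rVal {R : Subgroup G} (hRP : R ≤ P) (hR : R ≠ ⊥) :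
    ¬ (p : ℤ) ∣ (rVal hM j R : ℤ) := by
  have hmodp : (p : ℤ) ∣ modP p := by
    unfold modP
    split_ifs with h
    · rw [h]; norm_num
    · exact dvd_rfl
  intro hd
  have h : (p : ℤ) ∣ 1 := by
    rcases rVal_congr hmax hab hfree hj R hRP hR with h | h
    · have := dvd_sub hd (hmodp.trans h); simpa using this
    · have := dvd_sub (hmodp.trans h) hd; simpa using this
  exact hp.out.ne_one (Nat.dvd_one.1 (by exact_mod_cast h))

include hmax hab hfree hj in
open scoped Classical in
/-- The congruences of the normalized integers. -/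
theorem sum_hVal {R : Subgroup G} (hRP : R ≤ P) (hR : R ≠ ⊥) :
    (Nat.card P : ℤ) ∣ ∑ x : P, hVal hM j (R ⊔ Subgroup.zpowers (x : G)) := by
  letI : CommGroup P :=
    { (inferInstance : Group P) with mul_comm := fun x y => Subtype.ext (hab _ x.2 _ y.2) }
  have hS : ∀ x : P, R ⊔ Subgroup.zpowers (x : G) ≤ P ∧ R ⊔ Subgroup.zpowers (x : G) ≠ ⊥ :=
    fun x => ⟨sup_le hRP (Subgroup.zpowers_le.2 x.2),
      fun h => hR (le_bot_iff.1 (h ▸ le_sup_left))⟩
  obtain ⟨F, u, hF, hFu, hu, hu1⟩ := exists_signed hmax hab hfree hj hRP hR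
  obtain ⟨Z, hZ, hZr, hZc⟩ := exists_normal_form hM hmax.1.1.1 hF
    (fun x => (rVal hM j (R ⊔ Subgroup.zpowers (x : G)) : ℤ)) u
    (fun x => by rw [hFu]; norm_num) hu hu1
    (fun x => not_dvd_rVal hmax hab hfree hj (hS x).1 (hS x).2)
  have hh : ∀ x : P, (Z x = hVal hM j (R ⊔ Subgroup.zpowers (x : G)) ∨
      Z x = -hVal hM j (R ⊔ Subgroup.zpowers (x : G))) := fun x => by
    rcases hZr x with h | h <;> rcases hVal_eq (hM := hM) (j := j)
      (R ⊔ Subgroup.zpowers (x : G)) with h' | h' <;> simp [h, h']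
  have hc := fun x : P => hVal_congr hmax hab hfree hj (hS x).1 (hS x).2
  have hnot := not_modP_dvd_two hp.out.two_le
  obtain ⟨σ, hσ, hZσ⟩ : ∃ σ : ℤ, (σ = 1 ∨ σ = -1) ∧
      ∀ x, Z x = σ * hVal hM j (R ⊔ Subgroup.zpowers (x : G)) := by
    rcases hh 1 with h1 | h1
    · refine ⟨1, Or.inl rfl, fun x => ?_⟩
      rw [one_mul]
      refine (hh x).resolve_right fun hx => hnot ?_
      obtain ⟨a, ha⟩ := hZc x
      obtain ⟨b, hb⟩ := hc 1
      obtain ⟨d, hd⟩ := hc x
      rw [hx, h1] at ha
      exact ⟨-(a + b + d), by linear_combination -ha - hb - hd⟩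
    · refine ⟨-1, Or.inr rfl, fun x => ?_⟩
      rw [neg_one_mul]
      refine (hh x).resolve_left fun hx => hnot ?_
      obtain ⟨a, ha⟩ := hZc x
      obtain ⟨b, hb⟩ := hc 1
      obtain ⟨d, hd⟩ := hc x
      rw [hx, h1] at ha
      exact ⟨a - b - d, by linear_combination ha - hb - hd⟩
  obtain ⟨z, hz⟩ := exists_sum_eq hZ
  refine ⟨σ * z, ?_⟩
  have h : ((∑ x : P, Z x : ℤ) : ℂ) = (((Nat.card P : ℤ) * z : ℤ) : ℂ) := by
    push_cast; rw [hz]
  have h' := Int.cast_injective h
  rw [Finset.sum_congr rfl fun x _ => hZσ x, ← Finset.mul_sum] at h'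
  rcases hσ with rfl | rfl <;> linarith

/-- The points: the subgroups with the trivial action. -/
def Pts (S : Type u) [Group S] : Type u := Subgroup S

instance (S : Type u) [Group S] : MulAction S (Pts S) where
  smul _ o := o
  one_smul _ := rfl
  mul_smul _ _ _ := rfl

noncomputable instance (S : Type u) [Group S] [Finite S] : Fintype (Pts S) :=
  Fintype.ofFinite (Subgroup S)

/-- The subgroup of a point. -/
def Pts.sub {S : Type u} [Group S] (o : Pts S) : Subgroup S := o

/-- A subgroup as a point. -/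
def Pts.mk {S : Type u} [Group S] (o : Subgroup S) : Pts S := o

theorem Pts.sub_injective {S : Type u} [Group S] : Function.Injective (Pts.sub (S := S)) :=
  fun _ _ h => h

include hmax hab hfree hj in
open scoped Classical in
/-- The sign function. -/
theorem exists_sign : ∃ h : P → ℤ, Cfsg.IsGeneralizedCharacter P (fun x => (h x : ℂ)) ∧
    ∀ x : P, x ≠ 1 → h x = hVal hM j (Subgroup.zpowers (x : G)) := by
  set Hs : Subgroup P → ℤ := fun o => hVal hM j (o.map P.subtype) with hHs
  set m : Subgroup P → ℤ := fun o =>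
    if o = ⊥ then -∑ x ∈ Finset.univ.filter (fun x : P => x ≠ 1), Hs (Subgroup.zpowers x) else Hs o
    with hm
  have hcomm : ∀ (s : P) (o : Subgroup P), o.map (MulAut.conj s).toMonoidHom = o := by
    intro s o
    have : (MulAut.conj s).toMonoidHom = MonoidHom.id P := MonoidHom.ext fun x => Subtype.ext (by
      show (s : G) * x * (s : G)⁻¹ = x
      rw [hab _ s.2 _ x.2, mul_inv_cancel_right])
    rw [this, Subgroup.map_id]
  let Y : H82.Star.Sys P (Pts P) :=
    { grp := Pts.sub
      le := fun a b => a.sub ≤ b.sub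
      m := fun o => m o.sub
      le_refl := fun _ => le_rfl
      le_trans := fun _ _ _ h h' => h.trans h'
      grp_le := fun _ _ h => h
      exists_below := fun b R hR => ⟨Pts.mk R, rfl, hR⟩
      below_unique := fun _ _ _ _ _ h => Pts.sub_injective h
      grp_smul := fun s o => (hcomm s o.sub).symm
      le_smul := fun _ _ _ h => h
      fix := fun _ _ _ => rfl
      m_smul := fun _ _ => rfl
      congr := fun o => by
        have hmem : ∀ s : P, s ∈ MulAction.stabilizer P o := fun _ => rfl
        rw [Nat.card_congr (Equiv.subtypeUnivEquiv hmem)]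
        have hsum : ∀ a : MulAction.stabilizer P o, (∑ o' : Pts P,
            if o'.sub = o.sub ⊔ Subgroup.zpowers (a : P) ∧ o.sub ≤ o'.sub then m o'.sub else 0) =
            m (o.sub ⊔ Subgroup.zpowers (a : P)) := by
          intro a
          rw [Finset.sum_eq_single (Pts.mk (o.sub ⊔ Subgroup.zpowers (a : P)))]
          · exact if_pos ⟨rfl, le_sup_left⟩
          · exact fun o' _ hne => if_neg fun h => hne (Pts.sub_injective h.1)
          · exact fun h => absurd (Finset.mem_univ _) h
        rw [Finset.sum_congr rfl fun a _ => hsum a,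
          Fintype.sum_equiv (Equiv.subtypeUnivEquiv hmem)
            (fun a : MulAction.stabilizer P o => m (o.sub ⊔ Subgroup.zpowers (a : P)))
            (fun a : P => m (o.sub ⊔ Subgroup.zpowers a)) fun a => rfl]
        by_cases ho : o.sub = ⊥
        · rw [ho]
          simp only [bot_sup_eq]
          rw [← Finset.sum_filter_add_sum_filter_not Finset.univ (fun x : P => x ≠ 1),
            show Finset.univ.filter (fun x : P => ¬ x ≠ 1) = {1} by ext x; simp, Finset.sum_singleton,
            Finset.sum_congr rfl (g := fun x : P => Hs (Subgroup.zpowers x)) fun x hx => by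
              rw [hm]; simp only
              rw [if_neg (by simpa using (Finset.mem_filter.1 hx).2)]]
          simp only [hm, Subgroup.zpowers_one_eq_bot, if_true, add_neg_cancel, dvd_zero]
        · have hR : o.sub.map P.subtype ≠ ⊥ := fun h =>
            ho ((Subgroup.map_eq_bot_iff_of_injective _ P.subtype_injective).1 h)
          have hd := sum_hVal hmax hab hfree hj (Subgroup.map_subtype_le o.sub) hR
          convert hd using 1
          refine Finset.sum_congr rfl fun x _ => ?_
          rw [hm]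
          simp only
          rw [if_neg (fun h => ho (le_bot_iff.1 (le_sup_left.trans (le_of_eq h)))), hHs]
          simp only
          rw [Subgroup.map_sup, MonoidHom.map_zpowers]
          rfl }
  refine ⟨fun x => m (Subgroup.zpowers x), ?_, fun x hx => ?_⟩
  · refine CharInduce.isGeneralizedCharacter_of_coeff (fun a b => ?_) fun ψ => ?_
    · show ((m (Subgroup.zpowers (b * a * b⁻¹)) : ℤ) : ℂ) = _
      rw [show b * a * b⁻¹ = a from Subtype.ext (by
        show (b : G) * a * (b : G)⁻¹ = a
        rw [hab _ b.2 _ a.2, mul_inv_cancel_right])]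
    · obtain ⟨z, hz⟩ := Y.exists_sum_eq (fun _ u => conj ((ψ : P → ℂ) u)) (fun _ _ _ _ _ => rfl)
        (fun s o u _ => by
          show conj ((ψ : P → ℂ) (s * u * s⁻¹)) = _
          rw [IsIrr.isClassFunction ψ.2 u s])
        (fun o => by
          obtain ⟨z, hz⟩ := exists_sum_eq (CharInduce.IsGen.of_char
            (CharInduce.IsChar.conj (H86.isCharacter_comp (IsIrr.isCharacter ψ.2) (Y.grp o).subtype)))
          exact ⟨z, hz⟩)
      refine ⟨z, ?_⟩
      have hsum : ∀ u : P, (∑ o : Pts P, if Y.grp o = Subgroup.zpowers u then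
          conj ((ψ : P → ℂ) u) * (Y.m o : ℂ) else 0) =
            (m (Subgroup.zpowers u) : ℂ) * conj ((ψ : P → ℂ) u) := by
        intro u
        rw [Finset.sum_eq_single (Pts.mk (Subgroup.zpowers u))]
        · exact (if_pos rfl).trans (mul_comm _ _)
        · exact fun o' _ hne => if_neg fun h => hne (Pts.sub_injective h)
        · exact fun h => absurd (Finset.mem_univ _) h
      rw [Finset.sum_congr rfl fun u _ => hsum u] at hz
      rw [classInner_def, hz, ← mul_assoc,
        inv_mul_cancel₀ (Nat.cast_ne_zero.2 Nat.card_pos.ne'), one_mul]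
  · show m (Subgroup.zpowers x) = _
    rw [hm]
    simp only
    rw [if_neg (by simpa using hx), hHs]
    simp only
    rw [MonoidHom.map_zpowers]
    rfl

end Cfsg.Agent.H80.PuigUsami
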